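import Groth.Agent.Lib.FinCov.FrameFree
import Groth.Prelude.Def_Pic
import Mathlib.AlgebraicGeometry.FunctionField
import Mathlib.AlgebraicGeometry.Modules.Sheaf

/-!
# Generators of invertible modules over opens, and their ratios in the function field
-/

universe u

open CategoryTheory Limits AlgebraicGeometry Opposite TopologicalSpace

namespace GrothLib.InvExt

variable {X : Scheme.{u}}

/-- Restriction of sections of a module. -/
noncomputable abbrev mres (M : X.Modules) {V W : X.Opens} (h : W ≤ V) (m : Γ(M, V)) : Γ(M, W) :=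
  M.presheaf.map (homOfLE h).op m

/-- Restriction of functions. -/
noncomputable abbrev fres (X : Scheme.{u}) {V W : X.Opens} (h : W ≤ V) (a : Γ(X, V)) : Γ(X, W) :=
  X.presheaf.map (homOfLE h).op a

theorem mres_mres (M : X.Modules) {V W T : X.Opens} (h : W ≤ V) (h' : T ≤ W) (m : Γ(M, V)) :
    mres M h' (mres M h m) = mres M (h'.trans h) m := by
  simp only [mres]
  rw [← ConcreteCategory.comp_apply, ← Functor.map_comp]
  rfl

theorem fres_fres {V W T : X.Opens} (h : W ≤ V) (h' : T ≤ W) (a : Γ(X, V)) :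
    fres X h' (fres X h a) = fres X (h'.trans h) a := by
  simp only [fres]
  rw [← ConcreteCategory.comp_apply, ← Functor.map_comp]
  rfl

theorem mres_smul (M : X.Modules) {V W : X.Opens} (h : W ≤ V) (a : Γ(X, V)) (m : Γ(M, V)) :
    mres M h (a • m) = fres X h a • mres M h m :=
  Scheme.Modules.map_smul M (homOfLE h) a m

theorem mres_self (M : X.Modules) {V : X.Opens} (m : Γ(M, V)) : mres M (le_refl V) m = m := by
  show M.presheaf.map (𝟙 (op V)) m = m
  rw [CategoryTheory.Functor.map_id]; rfl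

theorem fres_self {V : X.Opens} (a : Γ(X, V)) : fres X (le_refl V) a = a := by
  show X.presheaf.map (𝟙 (op V)) a = a
  rw [CategoryTheory.Functor.map_id]; rfl

/-- A generator of a module over an open: on every smaller open it is a basis of the sections. -/
def IsGen (M : X.Modules) (V : X.Opens) (e : Γ(M, V)) : Prop :=
  ∀ (W : X.Opens) (h : W ≤ V), Function.Bijective fun c : Γ(X, W) => c • mres M h e

namespace IsGen

variable {M : X.Modules} {V : X.Opens} {e : Γ(M, V)}

theorem restrict (he : IsGen M V e) {W : X.Opens} (h : W ≤ V) : IsGen M W (mres M h e) := fun T hT => by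
  simp only [mres_mres]
  exact he T (hT.trans h)

theorem exists_smul_eq (he : IsGen M V e) {W : X.Opens} (h : W ≤ V) (m : Γ(M, W)) :
    ∃ c : Γ(X, W), m = c • mres M h e :=
  let ⟨c, hc⟩ := (he W h).2 m; ⟨c, hc.symm⟩

theorem smul_left_injective (he : IsGen M V e) {W : X.Opens} (h : W ≤ V) {c d : Γ(X, W)}
    (hcd : c • mres M h e = d • mres M h e) : c = d :=
  (he W h).1 hcd

theorem smul_unit (he : IsGen M V e) {u : Γ(X, V)} (hu : IsUnit u) : IsGen M V (u • e) := fun W h => by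
  have hu' : IsUnit (fres X h u) := hu.map _
  have : (fun c : Γ(X, W) => c • mres M h (u • e)) =
      (fun c : Γ(X, W) => c • mres M h e) ∘ fun c => c * fres X h u := by
    funext c
    simp only [Function.comp, mres_smul, smul_smul]
  rw [this]
  exact (he W h).comp ⟨fun a b hab => hu'.mul_right_cancel hab,
    fun a => ⟨a * ↑hu'.unit⁻¹, by simp [mul_assoc]⟩⟩

end IsGen

theorem isGen_iff_isFrame {M : X.Modules} {V : X.Opens} (e : Fin 1 → Γ(M, V)) :
    FinCov.IsFrame M V e ↔ IsGen M V (e 0) := by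
  refine forall₂_congr fun W h => ?_
  have : (fun c : Fin 1 → Γ(X, W) => ∑ i, c i • M.presheaf.map (homOfLE h).op (e i)) =
      (fun c : Γ(X, W) => c • mres M h (e 0)) ∘ Equiv.funUnique (Fin 1) Γ(X, W) := by
    funext c; simp [mres]
  rw [this]
  exact ⟨fun hb => (Equiv.bijective _).of_comp_iff _ |>.mp hb, fun hb => hb.comp (Equiv.bijective _)⟩

theorem exists_gen_nhd {M : X.Modules} (hM : PicF.IsInvertible M) (x : X) :
    ∃ (V : X.Opens) (e : Γ(M, V)), x ∈ V ∧ IsGen M V e := by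
  have h1 : FlatMod.IsFinLocFreeOfRank 1 M := fun y => by
    obtain ⟨U, hy, ⟨φ⟩⟩ := hM y
    exact ⟨U, hy, ⟨φ ≪≫ (coproductUniqueIso fun _ : Fin 1 => Coh.structureModule (↑U)).symm⟩⟩
  obtain ⟨V, e, hx, he⟩ := FinCov.exists_frame_nhd_of_rank h1 x
  exact ⟨V, e 0, hx, (isGen_iff_isFrame e).mp he⟩

theorem exists_iso_of_gen {M : X.Modules} {V : X.Opens} {e : Γ(M, V)} (he : IsGen M V e) :
    Nonempty (M.restrict V.ι ≅ Coh.structureModule (↑V)) := by
  obtain ⟨φ⟩ := FinCov.exists_iso_of_frame ((isGen_iff_isFrame (fun _ : Fin 1 => e)).mpr he)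
  exact ⟨φ ≪≫ coproductUniqueIso fun _ : Fin 1 => Coh.structureModule (↑V)⟩

theorem isInvertible_of_gens {M : X.Modules}
    (h : ∀ x : X, ∃ (V : X.Opens) (e : Γ(M, V)), x ∈ V ∧ IsGen M V e) : PicF.IsInvertible M := fun x => by
  obtain ⟨V, e, hx, he⟩ := h x
  exact ⟨V, hx, exists_iso_of_gen he⟩

/-- A section which generates near every point of an open generates. -/
theorem isGen_of_cover {M : X.Modules} {V : X.Opens} {e : Γ(M, V)} {ι : Type*} (V' : ι → X.Opens)
    (hle : ∀ i, V' i ≤ V) (hcov : V ≤ ⨆ i, V' i) (hgen : ∀ i, IsGen M (V' i) (mres M (hle i) e)) :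
    IsGen M V e := by
  intro W h
  have hc : W ≤ ⨆ i, W ⊓ V' i := by
    rw [← inf_iSup_eq]
    exact le_inf le_rfl (h.trans hcov)
  constructor
  · intro c d hcd
    refine X.sheaf.eq_of_locally_eq' (fun i => W ⊓ V' i) W (fun i => homOfLE inf_le_left) hc c d fun i => ?_
    refine (hgen i).smul_left_injective (inf_le_right : W ⊓ V' i ≤ V' i) ?_
    have := congrArg (mres M (inf_le_left : W ⊓ V' i ≤ W)) hcd
    simp only [mres_smul, mres_mres] at this
    simp only [mres_mres]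
    exact this
  · intro m
    choose c hc' using fun i => (hgen i).exists_smul_eq (inf_le_right : W ⊓ V' i ≤ V' i)
      (mres M (inf_le_left : W ⊓ V' i ≤ W) m)
    obtain ⟨g, hg, -⟩ := X.sheaf.existsUnique_gluing' (fun i => W ⊓ V' i) W (fun i => homOfLE inf_le_left) hc c
      (by
        intro i j
        have hij : W ⊓ V' i ⊓ (W ⊓ V' j) ≤ V' i := inf_le_left.trans inf_le_right
        refine (hgen i).smul_left_injective hij ?_
        have hi := congrArg (mres M (inf_le_left : W ⊓ V' i ⊓ (W ⊓ V' j) ≤ W ⊓ V' i)) (hc' i)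
        have hj := congrArg (mres M (inf_le_right : W ⊓ V' i ⊓ (W ⊓ V' j) ≤ W ⊓ V' j)) (hc' j)
        simp only [mres_smul, mres_mres] at hi hj
        simp only [mres_mres]
        exact hi.symm.trans hj)
    let g' : Γ(X, W) := g
    refine ⟨g', TopCat.Sheaf.eq_of_locally_eq' ⟨M.presheaf, M.isSheaf⟩ (fun i => W ⊓ V' i) W
      (fun i => homOfLE inf_le_left) hc _ _ fun i => ?_⟩
    show mres M (inf_le_left : W ⊓ V' i ≤ W) (g' • mres M h e) = mres M inf_le_left m
    rw [mres_smul, hc' i, mres_mres, mres_mres]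
    congr 1
    exact hg i

/-- Gluing of compatible generators. -/
theorem exists_gen_of_glue {M : X.Modules} {ι : Type*} (V : ι → X.Opens) (e : ∀ i, Γ(M, V i))
    (he : ∀ i, IsGen M (V i) (e i))
    (hcomp : ∀ i j, mres M (inf_le_left : V i ⊓ V j ≤ V i) (e i) = mres M (inf_le_right : V i ⊓ V j ≤ V j) (e j))
    (T : X.Opens) (hle : ∀ i, V i ≤ T) (hcov : T ≤ ⨆ i, V i) : ∃ s : Γ(M, T), IsGen M T s := by
  obtain ⟨s, hs, -⟩ := TopCat.Sheaf.existsUnique_gluing' ⟨M.presheaf, M.isSheaf⟩ V T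
    (fun i => homOfLE (hle i)) hcov e hcomp
  exact ⟨s, isGen_of_cover V hle hcov fun i => by
    rw [show mres M (hle i) s = e i from hs i]; exact he i⟩

section Push

variable {U : X.Opens} (L : (U : Scheme.{u}).Modules)

/-- Generators of a module on an open subscheme give generators of its pushforward. -/
theorem isGen_pushforward {V : X.Opens} (hV : V ≤ U) {e : Γ(L, U.ι ⁻¹ᵁ V)} (he : IsGen L (U.ι ⁻¹ᵁ V) e) :
    IsGen ((Scheme.Modules.pushforward U.ι).obj L) V e := by
  intro W h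
  have hb : Function.Bijective (U.ι.app W).hom := by
    haveI := U.ι.isIso_app W ((h.trans hV).trans (by rw [Scheme.Opens.opensRange_ι]))
    exact ConcreteCategory.bijective_of_isIso (U.ι.app W)
  exact (he (U.ι ⁻¹ᵁ W) (fun x hx => h hx)).comp hb

theorem exists_gen_nhd_pushforward (hL : PicF.IsInvertible L) {x : X} (hx : x ∈ U) :
    ∃ (V : X.Opens) (e : Γ((Scheme.Modules.pushforward U.ι).obj L, V)),
      x ∈ V ∧ V ≤ U ∧ IsGen ((Scheme.Modules.pushforward U.ι).obj L) V e := by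
  obtain ⟨W, e, hxW, he⟩ := exists_gen_nhd hL ⟨x, hx⟩
  have hle : U.ι ''ᵁ W ≤ U := by
    refine le_trans (Scheme.Hom.image_mono _ (le_top : W ≤ ⊤)) ?_
    simp [Scheme.Opens.ι_image_top]
  refine ⟨U.ι ''ᵁ W, mres L (Scheme.Hom.preimage_image_eq U.ι W).le e, ⟨⟨x, hx⟩, hxW, rfl⟩, hle,
    isGen_pushforward L hle (he.restrict _)⟩

end Push

section FunctionField

variable [IsIntegral X]

/-- The image of a function in the function field. -/
noncomputable abbrev toK {V : X.Opens} (x : X) (hx : x ∈ V) (a : Γ(X, V)) : X.functionField :=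
  haveI : Nonempty V := ⟨⟨x, hx⟩⟩
  X.germToFunctionField V a

theorem toK_congr {V : X.Opens} {x y : X} (hx : x ∈ V) (hy : y ∈ V) (a : Γ(X, V)) :
    toK x hx a = toK y hy a := rfl

theorem toK_injective {V : X.Opens} (x : X) (hx : x ∈ V) {a b : Γ(X, V)} (h : toK x hx a = toK x hx b) :
    a = b :=
  haveI : Nonempty V := ⟨⟨x, hx⟩⟩
  X.germToFunctionField_injective V h

theorem toK_fres {V W : X.Opens} (h : W ≤ V) (x : X) (hx : x ∈ W) (a : Γ(X, V)) :
    toK x hx (fres X h a) = toK x (h hx) a :=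
  X.presheaf.germ_res_apply (homOfLE h) (genericPoint X) _ a

/-- A rational function is a unit at a point. -/
def IsUnitAt (x : X) (c : X.functionField) : Prop :=
  ∃ (V : X.Opens) (hx : x ∈ V) (a : Γ(X, V)), IsUnit a ∧ toK x hx a = c

theorem isUnitAt_of_stalk {x : X} {c : X.functionField} {u : X.presheaf.stalk x} (hu : IsUnit u)
    (h : algebraMap (X.presheaf.stalk x) X.functionField u = c) : IsUnitAt x c := by
  obtain ⟨V, hx, a, rfl⟩ := X.presheaf.exists_germ_eq u
  refine ⟨X.basicOpen a, ?_, fres X (X.basicOpen_le a) a, X.toRingedSpace.isUnit_res_basicOpen a, ?_⟩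
  · exact (X.mem_basicOpen a x hx).mpr hu
  · rw [toK_fres, ← h]
    haveI : Nonempty V := ⟨⟨x, hx⟩⟩
    exact (X.algebraMap_germ_eq_germToFunctionField hx a).symm

/-- A rational function which is a unit at every point of an open is given by a unit on it. -/
theorem exists_unit_section {V : X.Opens} {x₀ : X} (hx₀ : x₀ ∈ V) {c : X.functionField}
    (h : ∀ x ∈ V, IsUnitAt x c) : ∃ u : Γ(X, V), IsUnit u ∧ toK x₀ hx₀ u = c := by
  choose W hW a ha hac using fun x : V => h x.1 x.2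
  let W' : V → X.Opens := fun x => W x ⊓ V
  let a' : ∀ x, Γ(X, W' x) := fun x => fres X inf_le_left (a x)
  have hcov : V ≤ ⨆ x, W' x := fun y hy =>
    Opens.mem_iSup.mpr ⟨⟨y, hy⟩, hW ⟨y, hy⟩, hy⟩
  obtain ⟨u, hu, -⟩ := X.sheaf.existsUnique_gluing' W' V (fun x => homOfLE inf_le_right) hcov a' (by
    intro i j
    by_cases hne : ((W' i ⊓ W' j : X.Opens) : Set X).Nonempty
    · obtain ⟨z, hz⟩ := hne
      refine toK_injective z hz ?_
      show toK z hz (fres X inf_le_left (a' i)) = toK z hz (fres X inf_le_right (a' j))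
      simp only [a', toK_fres]
      exact (hac i).trans (hac j).symm
    · show fres X inf_le_left (a' i) = fres X inf_le_right (a' j)
      haveI : Subsingleton Γ(X, W' i ⊓ W' j) := by
        have : W' i ⊓ W' j = ⊥ := Opens.ext (Set.not_nonempty_iff_eq_empty.mp hne)
        rw [this]; infer_instance
      exact Subsingleton.elim _ _)
  refine ⟨u, ?_, ?_⟩
  · refine X.toRingedSpace.isUnit_of_isUnit_germ V u fun x hx => ?_
    have := congrArg (X.presheaf.germ (W' ⟨x, hx⟩) x ⟨hW ⟨x, hx⟩, hx⟩) (hu ⟨x, hx⟩)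
    change X.presheaf.germ (W' ⟨x, hx⟩) x _ (fres X inf_le_right u) = _ at this
    erw [X.presheaf.germ_res_apply] at this
    rw [this]
    exact ((ha ⟨x, hx⟩).map _).map _
  · rw [← toK_fres (inf_le_right : W' ⟨x₀, hx₀⟩ ≤ V) x₀ ⟨hW _, hx₀⟩,
      show fres X (inf_le_right : W' ⟨x₀, hx₀⟩ ≤ V) u = a' ⟨x₀, hx₀⟩ from hu _]
    simp only [a', toK_fres]
    exact hac _

variable (M : X.Modules)

/-- `r` is the ratio of the generator `e` to the generator `e'`. -/
def IsRatio {V V' : X.Opens} (e : Γ(M, V)) (e' : Γ(M, V')) (r : X.functionField) : Prop :=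
  ∃ (W : X.Opens) (h : W ≤ V) (h' : W ≤ V') (x : X) (hx : x ∈ W) (c : Γ(X, W)),
    mres M h e = c • mres M h' e' ∧ toK x hx c = r

variable {M}

theorem exists_common_point {V V' : X.Opens} {x x' : X} (hx : x ∈ V) (hx' : x' ∈ V') :
    ∃ z, z ∈ V ⊓ V' :=
  ⟨genericPoint X, ((genericPoint_spec X).mem_open_set_iff V.2).mpr ⟨x, trivial, hx⟩,
    ((genericPoint_spec X).mem_open_set_iff V'.2).mpr ⟨x', trivial, hx'⟩⟩

theorem exists_isRatio {V V' : X.Opens} {e : Γ(M, V)} {e' : Γ(M, V')} (he' : IsGen M V' e')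
    {x x' : X} (hx : x ∈ V) (hx' : x' ∈ V') : ∃ r, IsRatio M e e' r := by
  obtain ⟨z, hz⟩ := exists_common_point hx hx'
  obtain ⟨c, hc⟩ := he'.exists_smul_eq (inf_le_right : V ⊓ V' ≤ V') (mres M inf_le_left e)
  exact ⟨toK z hz c, V ⊓ V', inf_le_left, inf_le_right, z, hz, c, hc, rfl⟩

theorem IsRatio.eval {V V' : X.Opens} {e : Γ(M, V)} {e' : Γ(M, V')} (he' : IsGen M V' e')
    {r : X.functionField} (hr : IsRatio M e e' r) {W : X.Opens} (h : W ≤ V) (h' : W ≤ V') {x : X}
    (hx : x ∈ W) {c : Γ(X, W)} (hc : mres M h e = c • mres M h' e') : toK x hx c = r := by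
  obtain ⟨W₀, g, g', x₀, hx₀, c₀, hc₀, rfl⟩ := hr
  obtain ⟨z, hz⟩ := exists_common_point hx hx₀
  rw [← toK_fres (inf_le_left : W ⊓ W₀ ≤ W) z hz c,
    ← toK_fres (inf_le_right : W ⊓ W₀ ≤ W₀) z hz c₀ |>.trans (toK_congr _ hx₀ c₀)]
  congr 1
  refine he'.smul_left_injective ((inf_le_left : W ⊓ W₀ ≤ W).trans h') ?_
  have h1 := congrArg (mres M (inf_le_left : W ⊓ W₀ ≤ W)) hc
  have h2 := congrArg (mres M (inf_le_right : W ⊓ W₀ ≤ W₀)) hc₀
  simp only [mres_smul, mres_mres] at h1 h2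
  exact h1.symm.trans h2

theorem IsRatio.trans {V V' V'' : X.Opens} {e : Γ(M, V)} {e' : Γ(M, V')} {e'' : Γ(M, V'')}
    {r r' : X.functionField} (hr : IsRatio M e e' r) (hr' : IsRatio M e' e'' r') :
    IsRatio M e e'' (r * r') := by
  obtain ⟨W, h, h', x, hx, c, hc, rfl⟩ := hr
  obtain ⟨T, g, g', y, hy, d, hd, rfl⟩ := hr'
  obtain ⟨z, hz⟩ := exists_common_point hx hy
  refine ⟨W ⊓ T, inf_le_left.trans h, inf_le_right.trans g', z, hz,
    fres X inf_le_left c * fres X inf_le_right d, ?_, ?_⟩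
  · have h1 := congrArg (mres M (inf_le_left : W ⊓ T ≤ W)) hc
    have h2 := congrArg (mres M (inf_le_right : W ⊓ T ≤ T)) hd
    simp only [mres_smul, mres_mres] at h1 h2
    rw [h1, h2, smul_smul]
  · haveI : Nonempty (W ⊓ T : X.Opens) := ⟨⟨z, hz⟩⟩
    rw [show toK z hz (fres X inf_le_left c * fres X inf_le_right d) =
      toK z hz (fres X inf_le_left c) * toK z hz (fres X inf_le_right d) from map_mul _ _ _,
      toK_fres, toK_fres]

theorem IsRatio.isUnitAt {V V' : X.Opens} {e : Γ(M, V)} {e' : Γ(M, V')} (he : IsGen M V e)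
    (he' : IsGen M V' e') {r : X.functionField} (hr : IsRatio M e e' r) {x : X} (hx : x ∈ V)
    (hx' : x ∈ V') : IsUnitAt x r := by
  obtain ⟨c, hc⟩ := he'.exists_smul_eq (inf_le_right : V ⊓ V' ≤ V') (mres M inf_le_left e)
  obtain ⟨d, hd⟩ := he.exists_smul_eq (inf_le_left : V ⊓ V' ≤ V) (mres M inf_le_right e')
  refine ⟨V ⊓ V', ⟨hx, hx'⟩, c, ?_, hr.eval he' inf_le_left inf_le_right ⟨hx, hx'⟩ hc⟩
  refine IsUnit.of_mul_eq_one d (he.smul_left_injective (inf_le_left : V ⊓ V' ≤ V) ?_)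
  rw [one_smul, mul_smul, ← hd, ← hc]

theorem isRatio_refl {V : X.Opens} {e : Γ(M, V)} {x : X} (hx : x ∈ V) : IsRatio M e e 1 := by
  haveI : Nonempty V := ⟨⟨x, hx⟩⟩
  exact ⟨V, le_rfl, le_rfl, x, hx, 1, (one_smul _ _).symm, map_one (X.germToFunctionField V).hom⟩

theorem IsRatio.unique {V V' : X.Opens} {e : Γ(M, V)} {e' : Γ(M, V')} (he' : IsGen M V' e')
    {r r' : X.functionField} (hr : IsRatio M e e' r) (hr' : IsRatio M e e' r') : r = r' := by
  obtain ⟨W, h, h', x, hx, c, hc, rfl⟩ := hr'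
  exact (hr.eval he' h h' hx hc).symm

/-- Correcting a family of generators by a rational function gives a global generator with known ratio. -/
theorem exists_gen_of_correction' {ι : Type*} (V : ι → X.Opens) (pt : ι → X) (hpt : ∀ i, pt i ∈ V i)
    (e : ∀ i, Γ(M, V i)) (he : ∀ i, IsGen M (V i) (e i)) (i₀ : ι) (c : ι → X.functionField)
    (hc : ∀ i, IsRatio M (e i₀) (e i) (c i)) (f : X.functionField)
    (hunit : ∀ i, ∀ x ∈ V i, IsUnitAt x (f * c i)) (T : X.Opens) (hle : ∀ i, V i ≤ T)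
    (hcov : T ≤ ⨆ i, V i) : ∃ s : Γ(M, T), IsGen M T s ∧ IsRatio M s (e i₀) f := by
  choose u hu huc using fun i => exists_unit_section (hpt i) (hunit i)
  have hglue : ∀ i j, mres M (inf_le_left : V i ⊓ V j ≤ V i) (u i • e i) =
      mres M (inf_le_right : V i ⊓ V j ≤ V j) (u j • e j) := fun i j => by
    obtain ⟨z, hz⟩ := exists_common_point (hpt i) (hpt j)
    haveI : Nonempty (V i ⊓ V j : X.Opens) := ⟨⟨z, hz⟩⟩
    obtain ⟨d, hd⟩ := (he j).exists_smul_eq (inf_le_right : V i ⊓ V j ≤ V j) (mres M inf_le_left (e i))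
    have hij : IsRatio M (e i) (e j) (toK z hz d) := ⟨_, _, _, z, hz, d, hd, rfl⟩
    rw [mres_smul, mres_smul, hd, smul_smul]
    congr 1
    refine toK_injective z hz ?_
    rw [show toK z hz (fres X inf_le_left (u i) * d) =
        toK z hz (fres X inf_le_left (u i)) * toK z hz d from map_mul _ _ _, toK_fres, toK_fres,
      toK_congr _ (hpt i), toK_congr _ (hpt j), huc, huc, mul_assoc]
    exact congrArg (f * ·) (((hc i).trans hij).unique (he j) (hc j))
  obtain ⟨s, hs, -⟩ := TopCat.Sheaf.existsUnique_gluing' ⟨M.presheaf, M.isSheaf⟩ V T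
    (fun i => homOfLE (hle i)) hcov (fun i => u i • e i) hglue
  refine ⟨s, isGen_of_cover V hle hcov fun i => ?_, V i₀, hle i₀, le_rfl, pt i₀, hpt i₀, u i₀, ?_, ?_⟩
  · rw [show mres M (hle i) s = u i • e i from hs i]
    exact (he i).smul_unit (hu i)
  · rw [mres_self]; exact hs i₀
  · rw [huc, (hc i₀).unique (he i₀) (isRatio_refl (hpt i₀)), mul_one]

/-- Correcting a family of generators by a rational function gives a global generator. -/
theorem exists_gen_of_correction {ι : Type*} (V : ι → X.Opens) (pt : ι → X) (hpt : ∀ i, pt i ∈ V i)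
    (e : ∀ i, Γ(M, V i)) (he : ∀ i, IsGen M (V i) (e i)) (i₀ : ι) (c : ι → X.functionField)
    (hc : ∀ i, IsRatio M (e i₀) (e i) (c i)) (f : X.functionField)
    (hunit : ∀ i, ∀ x ∈ V i, IsUnitAt x (f * c i)) (T : X.Opens) (hle : ∀ i, V i ≤ T)
    (hcov : T ≤ ⨆ i, V i) : ∃ s : Γ(M, T), IsGen M T s := by
  obtain ⟨s, hs, -⟩ := exists_gen_of_correction' V pt hpt e he i₀ c hc f hunit T hle hcov
  exact ⟨s, hs⟩

end FunctionField

end GrothLib.InvExt
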