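import Groth.Agent.Lib.InvExt.Gen
import Groth.Agent.Lib.QCoh.Locality
import Groth.Agent.Lib.Cohom.AffineSections
import Groth.Agent.Lib.WeakAss.Structure
import Groth.Agent.Lib.Japanese.IntegralSpec
import Mathlib.AlgebraicGeometry.Morphisms.QuasiFinite

/-!
An invertible module is trivial over a neighbourhood of every fibre of a finite morphism.
-/

set_option linter.style.haveILetI false

universe u

open CategoryTheory Limits AlgebraicGeometry Opposite TopologicalSpace

namespace GrothLib.InvExt

variable {X : Scheme.{u}}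

theorem isQuasicoherent_of_isInvertible {M : X.Modules} (hM : PicF.IsInvertible M) : M.IsQuasicoherent := by
  choose U hU hφ using fun x => hM x
  refine QCoh.isQuasicoherent_of_restrict M (ι := X) U
    (eq_top_iff.mpr fun x _ => Opens.mem_iSup.mpr ⟨x, hU x⟩) fun x => ?_
  exact (SheafOfModules.isQuasicoherent.{u} (U x : Scheme.{u}).ringCatSheaf).prop_of_iso (hφ x).some.symm inferInstance

theorem isUnit_res_of_le_basicOpen {U W : X.Opens} (h : W ≤ U) (f : Γ(X, U)) (hW : W ≤ X.basicOpen f) :
    IsUnit (fres X h f) := by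
  refine X.toRingedSpace.isUnit_of_isUnit_germ W _ fun x hx => ?_
  have h1 : IsUnit (X.presheaf.germ U x (h hx) f) := (X.mem_basicOpen f x (h hx)).mp (hW hx)
  rwa [← X.presheaf.germ_res_apply (homOfLE h) x hx f] at h1

/-- A module with local generators has a generator near any finite antichain in an affine open. -/
theorem exists_gen_nhd_of_finite {M : X.Modules} (hM : PicF.IsInvertible M) {U : X.Opens} (hU : IsAffineOpen U)
    (S : Set X) (hS : S.Finite) (hSU : S ⊆ U) (hanti : ∀ a ∈ S, ∀ b ∈ S, a ⤳ b → a = b) :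
    ∃ (W : X.Opens) (s : Γ(M, W)), S ⊆ W ∧ IsGen M W s := by
  classical
  haveI := hS.fintype
  haveI := isQuasicoherent_of_isInvertible hM
  -- generators on basic opens
  have hloc : ∀ a : S, ∃ (f : Γ(X, U)) (e : Γ(M, X.basicOpen f)), (a : X) ∈ X.basicOpen f ∧
      IsGen M (X.basicOpen f) e := fun a => by
    obtain ⟨V, e, haV, he⟩ := exists_gen_nhd hM (a : X)
    obtain ⟨f, hfV, haf⟩ := hU.exists_basicOpen_le ⟨(a : X), haV⟩ (hSU a.2)
    exact ⟨f, mres M hfV e, haf, he.restrict hfV⟩
  choose f e hmem he using hloc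
  choose n t ht using fun a => Cohom.exists_pow_smul_eq_map hU M (f a) (e a)
  -- separating functions
  have hsep : ∀ a b : S, ∃ g : Γ(X, U), (a : X) ∈ X.basicOpen g ∧ (b ≠ a → (b : X) ∉ X.basicOpen g) := by
    intro a b
    by_cases hab : b = a
    · exact ⟨1, by rw [Scheme.basicOpen_of_isUnit _ isUnit_one]; exact hSU a.2, fun h => absurd hab h⟩
    · have : ¬ (b : X) ⤳ (a : X) := fun h => hab (Subtype.ext (hanti _ b.2 _ a.2 h))
      rw [specializes_iff_forall_open] at this
      push Not at this
      obtain ⟨O, hO, haO, hbO⟩ := this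
      obtain ⟨g, hgO, hag⟩ := hU.exists_basicOpen_le (V := ⟨O, hO⟩) ⟨(a : X), haO⟩ (hSU a.2)
      exact ⟨g, hag, fun _ h => hbO (hgO h)⟩
  choose g hg1 hg2 using hsep
  let w : S → Γ(X, U) := fun a => ∏ b, g a b
  let s : Γ(M, U) := ∑ a, w a • t a
  have key : ∀ a : S, ∃ W : X.Opens, ∃ h : W ≤ U, (a : X) ∈ W ∧ IsGen M W (mres M h s) := by
    intro a
    have hle := X.basicOpen_le (f a)
    choose c hc using fun b : S => (he a).exists_smul_eq le_rfl (mres M hle (t b))
    simp only [mres_self] at hc
    let C : Γ(X, X.basicOpen (f a)) := ∑ b, fres X hle (w b) * c b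
    have hres : mres M hle s = C • e a := by
      simp only [s, C, Finset.sum_smul, mres, map_sum]
      refine Finset.sum_congr rfl fun b _ => ?_
      change mres M hle (w b • t b) = _
      rw [mres_smul, hc b, smul_smul]
    -- the coefficient is a unit at `a`
    let ev := (X.evaluation (X.basicOpen (f a)) (a : X) (hmem a)).hom
    have hev : ev C ≠ 0 := by
      have hca : c a = fres X hle (f a) ^ n a := by
        refine (he a).smul_left_injective le_rfl ?_
        rw [mres_self, ← hc a]
        exact ht a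
      have hzero : ∀ b, b ≠ a → ev (fres X hle (w b)) = 0 := fun b hb => by
        simp only [w, map_prod, fres]
        refine Finset.prod_eq_zero (Finset.mem_univ a) ?_
        refine (Scheme.evaluation_eq_zero_iff_notMem_basicOpen ..).mpr fun h => hg2 b a (Ne.symm hb) ?_
        rw [Scheme.basicOpen_res] at h
        exact h.2
      have hw : ev (fres X hle (w a)) ≠ 0 := by
        simp only [w, map_prod, fres]
        refine Finset.prod_ne_zero_iff.mpr fun b _ => ?_
        refine (Scheme.evaluation_ne_zero_iff_mem_basicOpen ..).mpr ?_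
        rw [Scheme.basicOpen_res]
        exact ⟨hmem a, hg1 a b⟩
      simp only [C, map_sum, map_mul]
      rw [Finset.sum_eq_single a (fun b _ hb => by rw [hzero b hb, zero_mul]) (fun h => absurd (Finset.mem_univ a) h),
        hca, map_pow]
      refine mul_ne_zero hw (pow_ne_zero _ ((Scheme.evaluation_ne_zero_iff_mem_basicOpen ..).mpr ?_))
      show (a : X) ∈ X.basicOpen (X.presheaf.map (homOfLE hle).op (f a))
      rw [Scheme.basicOpen_res]
      exact ⟨hmem a, hmem a⟩
    refine ⟨X.basicOpen C, (X.basicOpen_le C).trans hle, (Scheme.evaluation_ne_zero_iff_mem_basicOpen ..).mp hev, ?_⟩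
    rw [← mres_mres M hle (X.basicOpen_le C), hres, mres_smul]
    exact ((he a).restrict _).smul_unit (isUnit_res_of_le_basicOpen _ C le_rfl)
  choose W hW haW hgen using key
  refine ⟨⨆ a, W a, mres M (iSup_le hW) s, fun a ha => Opens.mem_iSup.mpr ⟨⟨a, ha⟩, haW _⟩, ?_⟩
  refine isGen_of_cover W (fun a => le_iSup W a) le_rfl fun a => ?_
  rw [mres_mres]
  exact hgen a

/-- An invertible module on the source of a finite morphism is trivial over an open neighbourhood of any
point of the target. -/
theorem exists_trivial_over_nhd {Y : Scheme.{u}} (π : X ⟶ Y) [IsFinite π] {L : X.Modules}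
    (hL : PicF.IsInvertible L) (y : Y) :
    ∃ V : Y.Opens, y ∈ V ∧ Nonempty (L.restrict (π ⁻¹ᵁ V).ι ≅ Coh.structureModule (↑(π ⁻¹ᵁ V))) := by
  obtain ⟨U, hU, hyU, -⟩ := exists_isAffineOpen_mem_and_subset (U := (⊤ : Y.Opens)) (x := y) trivial
  have hanti : ∀ a ∈ π ⁻¹' {y}, ∀ b ∈ π ⁻¹' {y}, a ⤳ b → a = b := fun a ha b hb h =>
    Japanese.eq_of_specializes_of_isIntegralHom π h ((ha : π a = y).trans (hb : π b = y).symm)
  obtain ⟨W, s, hSW, hs⟩ := exists_gen_nhd_of_finite hL (hU.preimage π) (π ⁻¹' {y})
    (π.finite_preimage_singleton y) (fun a ha => by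
      show π a ∈ U
      rw [show π a = y from ha]; exact hyU) hanti
  let V : Y.Opens := ⟨(π '' (W : Set X)ᶜ)ᶜ, (π.isClosedMap _ W.2.isClosed_compl).isOpen_compl⟩
  have hVW : π ⁻¹ᵁ V ≤ W := fun x hx => by
    by_contra h
    exact hx ⟨x, h, rfl⟩
  refine ⟨V, ?_, exists_iso_of_gen (hs.restrict hVW)⟩
  rintro ⟨x, hx, hxy⟩
  exact hx (hSW hxy)

end GrothLib.InvExt
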