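import Groth.Agent.Lib.InvExt.Gen
import Mathlib.AlgebraicGeometry.Modules.Sheaf

/-!
Generators along open immersions, pushforwards and biproducts.
-/

universe u

open CategoryTheory Limits AlgebraicGeometry Opposite TopologicalSpace

namespace GrothLib.InvExt

variable {X Y : Scheme.{u}}

theorem subsingleton_sections_of_eq_bot (M : X.Modules) {W : X.Opens} (hW : W = ⊥) :
    Subsingleton Γ(M, W) :=
  ⟨fun a b => TopCat.Sheaf.eq_of_locally_eq' ⟨M.presheaf, M.isSheaf⟩ (fun i : PEmpty.{u + 1} => i.elim) W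
    (fun i => i.elim) (by rw [hW]; exact bot_le) a b fun i => i.elim⟩

theorem mres_eqRec (M : X.Modules) {V W : X.Opens} (h : W = V) (m : Γ(M, V)) :
    mres M h.ge (mres M h.le m) = m := by
  rw [mres_mres, mres_self]

theorem mres_bijective_of_eq (M : X.Modules) {V W : X.Opens} (h : W = V) :
    Function.Bijective (mres M h.le) := by
  subst h
  exact ⟨fun a b hab => by simpa only [mres_self] using hab, fun a => ⟨a, mres_self M a⟩⟩

theorem isGen_one (V : X.Opens) : IsGen (Coh.structureModule X) V (1 : Γ(X, V)) := fun W h => by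
  have : (fun c : Γ(X, W) => c • mres (Coh.structureModule X) h (1 : Γ(X, V))) =
      fun c : Γ(X, W) => (c : Γ(Coh.structureModule X, W)) := by
    funext c
    show c * (X.presheaf.map (homOfLE h).op (1 : Γ(X, V))) = c
    rw [map_one, mul_one]
  rw [this]
  exact Function.bijective_id

theorem mres_app {M N : X.Modules} (φ : M ⟶ N) {V W : X.Opens} (h : W ≤ V) (m : Γ(M, V)) :
    mres N h (φ.app V m) = φ.app W (mres M h m) :=
  congr($(φ.mapPresheaf.naturality (homOfLE h).op) m).symm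

theorem IsGen.map {M N : X.Modules} (φ : M ⟶ N) {V : X.Opens} {e : Γ(M, V)} (he : IsGen M V e)
    (hφ : ∀ W, W ≤ V → Function.Bijective (φ.app W)) : IsGen N V (φ.app V e) := fun W h => by
  have : (fun c : Γ(X, W) => c • mres N h (φ.app V e)) = (φ.app W) ∘ fun c => c • mres M h e := by
    funext c
    show _ = φ.app W (c • mres M h e)
    rw [mres_app, Scheme.Modules.Hom.app_smul]
  rw [this]
  exact (hφ W h).comp (he W h)

theorem bijective_biprod_inl {M N : X.Modules} {W : X.Opens} [Subsingleton Γ(N, W)] :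
    Function.Bijective ((biprod.inl : M ⟶ M ⊞ N).app W) := by
  refine Function.bijective_iff_has_inverse.mpr ⟨(biprod.fst : M ⊞ N ⟶ M).app W, fun m => ?_, fun m => ?_⟩
  · show ((biprod.inl : M ⟶ M ⊞ N) ≫ biprod.fst).app W m = m
    rw [biprod.inl_fst]; rfl
  · have h := congrArg (fun ψ : M ⊞ N ⟶ M ⊞ N => ψ.app W m) (biprod.total (X := M) (Y := N))
    simp only [Scheme.Modules.Hom.add_app, Scheme.Modules.Hom.id_app] at h
    change (biprod.inl : M ⟶ M ⊞ N).app W ((biprod.fst : M ⊞ N ⟶ M).app W m) +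
      (biprod.inr : N ⟶ M ⊞ N).app W ((biprod.snd : M ⊞ N ⟶ N).app W m) = m at h
    rwa [Subsingleton.elim ((biprod.snd : M ⊞ N ⟶ N).app W m) 0, map_zero, add_zero] at h

theorem bijective_biprod_inr {M N : X.Modules} {W : X.Opens} [Subsingleton Γ(M, W)] :
    Function.Bijective ((biprod.inr : N ⟶ M ⊞ N).app W) := by
  refine Function.bijective_iff_has_inverse.mpr ⟨(biprod.snd : M ⊞ N ⟶ N).app W, fun m => ?_, fun m => ?_⟩
  · show ((biprod.inr : N ⟶ M ⊞ N) ≫ biprod.snd).app W m = m
    rw [biprod.inr_snd]; rfl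
  · have h := congrArg (fun ψ : M ⊞ N ⟶ M ⊞ N => ψ.app W m) (biprod.total (X := M) (Y := N))
    simp only [Scheme.Modules.Hom.add_app, Scheme.Modules.Hom.id_app] at h
    change (biprod.inl : M ⟶ M ⊞ N).app W ((biprod.fst : M ⊞ N ⟶ M).app W m) +
      (biprod.inr : N ⟶ M ⊞ N).app W ((biprod.snd : M ⊞ N ⟶ N).app W m) = m at h
    rwa [Subsingleton.elim ((biprod.fst : M ⊞ N ⟶ M).app W m) 0, map_zero, zero_add] at h

theorem subsingleton_pushforward {U : X.Opens} (L : (U : Scheme.{u}).Modules) {W : X.Opens}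
    (h : Disjoint (W : Set X) U) : Subsingleton Γ((Scheme.Modules.pushforward U.ι).obj L, W) :=
  subsingleton_sections_of_eq_bot L (Opens.ext (Set.eq_empty_of_forall_notMem fun y hy =>
    Set.disjoint_left.mp h hy y.2))

theorem mres_pushforward_bijective {U : X.Opens} (L : (U : Scheme.{u}).Modules) {V W : X.Opens}
    (h : W ≤ V) (hU : V ⊓ U ≤ W) :
    Function.Bijective (mres ((Scheme.Modules.pushforward U.ι).obj L) h) :=
  mres_bijective_of_eq L (le_antisymm (fun y hy => h hy) fun y hy => hU ⟨hy, y.2⟩ :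
    U.ι ⁻¹ᵁ W = U.ι ⁻¹ᵁ V)

section Immersion

variable (f : Y ⟶ X) [IsOpenImmersion f] (M : X.Modules)

theorem restrict_smul {W : Y.Opens} (c : Γ(Y, W)) (m : Γ(M.restrict f, W)) :
    c • m = (show Γ(M.restrict f, W) from (f.appIso W).inv c • (show Γ(M, f ''ᵁ W) from m)) := rfl

theorem restrict_mres {W V : Y.Opens} (h : W ≤ V) (m : Γ(M.restrict f, V)) :
    mres (M.restrict f) h m = (show Γ(M.restrict f, W) from
      mres M (Scheme.Hom.image_mono f h) (show Γ(M, f ''ᵁ V) from m)) := rfl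

theorem appIso_inv_fres {W V : Y.Opens} (h : W ≤ V) (c : Γ(Y, V)) :
    (f.appIso W).inv (fres Y h c) = fres X (Scheme.Hom.image_mono f h) ((f.appIso V).inv c) :=
  congr($(f.appIso_inv_naturality (homOfLE h).op) c)

theorem isGen_image {W : Y.Opens} {e : Γ(M.restrict f, W)} (he : IsGen (M.restrict f) W e) :
    IsGen M (f ''ᵁ W) (show Γ(M, f ''ᵁ W) from e) := by
  intro T hT
  obtain ⟨T', rfl⟩ : ∃ T' : Y.Opens, f ''ᵁ T' = T := ⟨f ⁻¹ᵁ T, by
    rw [f.image_preimage_eq_opensRange_inf]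
    exact inf_eq_right.mpr (hT.trans (f.image_le_opensRange W))⟩
  have hTW : T' ≤ W := fun y hy => by
    obtain ⟨y', hy', hyy'⟩ := hT ⟨y, hy, rfl⟩
    exact f.isOpenEmbedding.injective hyy' ▸ hy'
  have hb := (he T' hTW).comp ((f.appIso T').commRingCatIsoToRingEquiv.bijective)
  have : (fun c : Γ(X, f ''ᵁ T') => c • mres M hT (show Γ(M, f ''ᵁ W) from e)) =
      (fun c : Γ(Y, T') => c • mres (M.restrict f) hTW e) ∘ (f.appIso T').commRingCatIsoToRingEquiv := by
    funext c
    show c • mres M hT (show Γ(M, f ''ᵁ W) from e) =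
      (f.appIso T').inv ((f.appIso T').hom c) • mres M hT (show Γ(M, f ''ᵁ W) from e)
    rw [← CommRingCat.comp_apply, Iso.hom_inv_id]
    rfl
  rw [this]
  exact hb

theorem isGen_restrict {W : Y.Opens} {e : Γ(M, f ''ᵁ W)} (he : IsGen M (f ''ᵁ W) e) :
    IsGen (M.restrict f) W (show Γ(M.restrict f, W) from e) := fun T hT =>
  (he (f ''ᵁ T) (Scheme.Hom.image_mono f hT)).comp
    ((f.appIso T).symm.commRingCatIsoToRingEquiv.bijective)

end Immersion

end GrothLib.InvExt
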