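import Groth.Agent.Lib.InvExt.Gen
import Mathlib.RingTheory.Localization.NumDen

/-!
Invertible modules on opens of the spectrum of a unique factorisation domain are trivial.
-/

set_option linter.style.haveILetI false

universe u

open CategoryTheory Limits AlgebraicGeometry Opposite TopologicalSpace

namespace GrothLib.InvExt

section IsUnitAt

variable {X : Scheme.{u}} [IsIntegral X] {x : X}

theorem IsUnitAt.one : IsUnitAt x (1 : X.functionField) :=
  haveI : Nonempty (⊤ : X.Opens) := ⟨⟨x, trivial⟩⟩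
  ⟨⊤, trivial, 1, isUnit_one, map_one (X.germToFunctionField ⊤).hom⟩

theorem IsUnitAt.mul {c d : X.functionField} (hc : IsUnitAt x c) (hd : IsUnitAt x d) :
    IsUnitAt x (c * d) := by
  obtain ⟨V, hx, a, ha, rfl⟩ := hc
  obtain ⟨W, hx', b, hb, rfl⟩ := hd
  have hz : x ∈ V ⊓ W := ⟨hx, hx'⟩
  haveI : Nonempty (V ⊓ W : X.Opens) := ⟨⟨x, hz⟩⟩
  refine ⟨V ⊓ W, hz, fres X inf_le_left a * fres X inf_le_right b, (ha.map _).mul (hb.map _), ?_⟩
  rw [show toK x hz (fres X inf_le_left a * fres X inf_le_right b) =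
    toK x hz (fres X inf_le_left a) * toK x hz (fres X inf_le_right b) from map_mul _ _ _,
    toK_fres, toK_fres]

theorem IsUnitAt.inv {c : X.functionField} (hc : IsUnitAt x c) : IsUnitAt x c⁻¹ := by
  obtain ⟨V, hx, a, ha, rfl⟩ := hc
  haveI : Nonempty V := ⟨⟨x, hx⟩⟩
  refine ⟨V, hx, ↑ha.unit⁻¹, Units.isUnit _, ?_⟩
  refine eq_inv_of_mul_eq_one_left ?_
  rw [← show toK x hx (↑ha.unit⁻¹ * a) = toK x hx (↑ha.unit⁻¹ : Γ(X, V)) * toK x hx a from map_mul _ _ _,
    IsUnit.val_inv_mul]
  exact map_one (X.germToFunctionField V).hom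

theorem IsUnitAt.ne_zero {c : X.functionField} (hc : IsUnitAt x c) : c ≠ 0 := by
  obtain ⟨V, hx, a, ha, rfl⟩ := hc
  haveI : Nonempty V := ⟨⟨x, hx⟩⟩
  exact (ha.map (X.germToFunctionField V).hom).ne_zero

theorem isUnitAt_iff_stalk {c : X.functionField} : IsUnitAt x c ↔
    ∃ u : X.presheaf.stalk x, IsUnit u ∧ algebraMap (X.presheaf.stalk x) X.functionField u = c := by
  refine ⟨?_, fun ⟨u, hu, h⟩ => isUnitAt_of_stalk hu h⟩
  rintro ⟨V, hx, a, ha, rfl⟩
  haveI : Nonempty V := ⟨⟨x, hx⟩⟩
  exact ⟨X.presheaf.germ V x hx a, ha.map _, X.algebraMap_germ_eq_germToFunctionField hx a⟩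

end IsUnitAt

section Spec

variable {R : CommRingCat.{u}} [IsDomain R]

theorem algebraMap_stalk_comp (x : Spec R) (r : R) :
    algebraMap ((Spec R).presheaf.stalk x) (Spec R).functionField
      ((algebraMap R ((AlgebraicGeometry.Spec.structureSheaf R).presheaf.stalk x) r :
        (AlgebraicGeometry.Spec.structureSheaf R).presheaf.stalk x)) =
      algebraMap R (Spec R).functionField r := by
  have hs : genericPoint (Spec R) ⤳ x := (genericPoint_spec (Spec R)).specializes trivial
  have h := (Spec R).presheaf.germ_stalkSpecializes (U := ⊤) (trivial : x ∈ (⊤ : (Spec R).Opens)) hs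
  exact congr($(h) ((Scheme.ΓSpecIso R).inv r))

/-- Being a unit at a prime: expressible by a fraction avoiding the prime. -/
theorem isUnitAt_Spec_iff (x : Spec R) (c : (Spec R).functionField) :
    IsUnitAt x c ↔ ∃ a b : R, a ∉ x.asIdeal ∧ b ∉ x.asIdeal ∧
      c * algebraMap R (Spec R).functionField b = algebraMap R (Spec R).functionField a := by
  let S := (AlgebraicGeometry.Spec.structureSheaf R).presheaf.stalk x
  haveI : IsLocalization.AtPrime S x.asIdeal := StructureSheaf.IsLocalization.to_stalk R x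
  let φ : S →+* (Spec R).functionField := algebraMap ((Spec R).presheaf.stalk x) (Spec R).functionField
  have hφ : ∀ r, φ (algebraMap R S r) = algebraMap R (Spec R).functionField r := algebraMap_stalk_comp x
  rw [isUnitAt_iff_stalk]
  constructor
  · rintro ⟨u, hu, rfl⟩
    let u' : S := u
    have hu' : IsUnit u' := hu
    obtain ⟨⟨a, b⟩, hab⟩ := IsLocalization.surj x.asIdeal.primeCompl u'
    refine ⟨a, b, ?_, b.2, ?_⟩
    · refine ((IsLocalization.AtPrime.isUnit_to_map_iff S x.asIdeal a).mp ?_ :)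
      rw [← hab]
      exact IsUnit.mul hu' (IsLocalization.map_units S b)
    · have := congrArg φ hab
      rw [map_mul, hφ, hφ] at this
      exact this
  · rintro ⟨a, b, ha, hb, hab⟩
    refine ⟨IsLocalization.mk' S a (⟨b, hb⟩ : x.asIdeal.primeCompl), ?_, ?_⟩
    · exact (IsLocalization.AtPrime.isUnit_mk'_iff S x.asIdeal a ⟨b, hb⟩).mpr ha
    · have hb0 : algebraMap R (Spec R).functionField b ≠ 0 := fun h =>
        hb ((IsFractionRing.injective R (Spec R).functionField (h.trans (map_zero _).symm)) ▸ x.asIdeal.zero_mem)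
      have := congrArg φ (IsLocalization.mk'_spec S a (⟨b, hb⟩ : x.asIdeal.primeCompl))
      rw [map_mul, hφ, hφ, ← hab] at this
      exact mul_right_cancel₀ hb0 this

theorem isUnitAt_algebraMap {x : Spec R} {r : R} (hr : r ∉ x.asIdeal) :
    IsUnitAt x (algebraMap R (Spec R).functionField r) :=
  (isUnitAt_Spec_iff x _).mpr ⟨r, 1, hr, fun h => x.isPrime.ne_top (x.asIdeal.eq_top_iff_one.mpr h),
    by rw [map_one, mul_one]⟩

theorem not_isUnitAt_of_mem {x : Spec R} {r : R} (hr : r ∈ x.asIdeal) :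
    ¬ IsUnitAt x (algebraMap R (Spec R).functionField r) := by
  rw [isUnitAt_Spec_iff]
  rintro ⟨a, b, ha, -, hab⟩
  rw [← map_mul] at hab
  exact ha (IsFractionRing.injective R _ hab ▸ x.asIdeal.mul_mem_right b hr)

variable [UniqueFactorizationMonoid R]

/-- The point of a prime element. -/
noncomputable def primePt {p : R} (hp : Prime p) : Spec R :=
  ⟨Ideal.span {p}, (Ideal.span_singleton_prime hp.ne_zero).mpr hp⟩

theorem primePt_specializes {p : R} (hp : Prime p) {x : Spec R} (hx : p ∈ x.asIdeal) : primePt hp ⤳ x :=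
  (PrimeSpectrum.le_iff_specializes (primePt hp) x).mp
    (show Ideal.span {p} ≤ x.asIdeal by rwa [Ideal.span_singleton_le_iff_mem])

/-- A rational function which is a unit at the point of every prime element in `x` is a unit at `x`. -/
theorem isUnitAt_of_forall_primePt {x : Spec R} {c : (Spec R).functionField} (hc0 : c ≠ 0)
    (h : ∀ (p : R) (hp : Prime p), p ∈ x.asIdeal → IsUnitAt (primePt hp) c) : IsUnitAt x c := by
  have key : algebraMap R (Spec R).functionField (IsFractionRing.num R c) =
      c * algebraMap R (Spec R).functionField (IsFractionRing.den R c) := by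
    have := IsFractionRing.mk'_num_den R c
    rw [IsLocalization.mk'_eq_iff_eq_mul] at this
    exact this
  have hn0 : IsFractionRing.num R c ≠ 0 := fun h0 => by
    rw [h0, map_zero] at key
    exact (mul_ne_zero hc0 (IsFractionRing.to_map_ne_zero_of_mem_nonZeroDivisors
      (IsFractionRing.den R c).2)) key.symm
  have hgood : ∀ (p : R), Prime p → p ∈ x.asIdeal →
      ¬ p ∣ IsFractionRing.num R c ∧ ¬ p ∣ (IsFractionRing.den R c : R) := by
    intro p hp hpx
    obtain ⟨a, b, ha, hb, hab⟩ := (isUnitAt_Spec_iff _ _).mp (h p hp hpx)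
    change a ∉ Ideal.span {p} at ha
    change b ∉ Ideal.span {p} at hb
    rw [Ideal.mem_span_singleton] at ha hb
    have heq : IsFractionRing.num R c * b = a * (IsFractionRing.den R c : R) := by
      apply IsFractionRing.injective R (Spec R).functionField
      rw [map_mul, map_mul, key, ← hab]; ring
    by_contra hcon
    rw [← or_iff_not_and_not] at hcon
    have hboth : p ∣ IsFractionRing.num R c ∧ p ∣ (IsFractionRing.den R c : R) := by
      rcases hcon with h1 | h1
      · exact ⟨h1, (hp.dvd_or_dvd (heq ▸ h1.mul_right b)).resolve_left ha⟩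
      · exact ⟨(hp.dvd_or_dvd (heq.symm ▸ h1.mul_left a : p ∣ IsFractionRing.num R c * b)).resolve_right hb, h1⟩
    exact hp.not_isUnit ((IsFractionRing.num_den_reduced R c) hboth.1 hboth.2)
  have hmem : ∀ r : R, r ≠ 0 → r ∈ x.asIdeal → ∃ p, Prime p ∧ p ∣ r ∧ p ∈ x.asIdeal := by
    intro r hr0 hr
    obtain ⟨f, hf, hassoc⟩ := UniqueFactorizationMonoid.exists_prime_factors r hr0
    have : f.prod ∈ x.asIdeal := by
      obtain ⟨u, hu⟩ := hassoc.symm
      exact hu ▸ x.asIdeal.mul_mem_right _ hr
    obtain ⟨p, hpf, hpx⟩ := (x.isPrime.multiset_prod_mem_iff_exists_mem f).mp this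
    exact ⟨p, hf p hpf, (Multiset.dvd_prod hpf).trans hassoc.dvd, hpx⟩
  refine (isUnitAt_Spec_iff x c).mpr ⟨IsFractionRing.num R c, IsFractionRing.den R c, ?_, ?_, key.symm⟩
  · intro hn
    obtain ⟨p, hp, hpd, hpx⟩ := hmem _ hn0 hn
    exact (hgood p hp hpx).1 hpd
  · intro hd
    obtain ⟨p, hp, hpd, hpx⟩ := hmem _ (nonZeroDivisors.ne_zero (IsFractionRing.den R c).2) hd
    exact (hgood p hp hpx).2 hpd

/-- At the point of a prime element every nonzero rational function is a unit times a power of it. -/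
theorem exists_zpow_isUnitAt {p : R} (hp : Prime p) {c : (Spec R).functionField} (hc0 : c ≠ 0) :
    ∃ n : ℤ, IsUnitAt (primePt hp) (c * algebraMap R (Spec R).functionField p ^ n) := by
  obtain ⟨a, b, hb, rfl⟩ := IsFractionRing.div_surjective R c
  have ha0 : a ≠ 0 := fun h => hc0 (by rw [h, map_zero, zero_div])
  have hb0 : b ≠ 0 := nonZeroDivisors.ne_zero hb
  obtain ⟨i, a', ha', rfl⟩ := WfDvdMonoid.max_power_factor ha0 hp.irreducible
  obtain ⟨j, b', hb', rfl⟩ := WfDvdMonoid.max_power_factor hb0 hp.irreducible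
  refine ⟨(j : ℤ) - i, (isUnitAt_Spec_iff _ _).mpr ⟨a', b', ?_, ?_, ?_⟩⟩
  · exact fun h => ha' (Ideal.mem_span_singleton.mp h)
  · exact fun h => hb' (Ideal.mem_span_singleton.mp h)
  · have hπ : algebraMap R (Spec R).functionField p ≠ 0 :=
      IsFractionRing.to_map_ne_zero_of_mem_nonZeroDivisors (mem_nonZeroDivisors_of_ne_zero hp.ne_zero)
    have hb'0 : algebraMap R (Spec R).functionField b' ≠ 0 :=
      IsFractionRing.to_map_ne_zero_of_mem_nonZeroDivisors
        (mem_nonZeroDivisors_of_ne_zero fun h => hb' (h ▸ dvd_zero p))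
    simp only [map_mul, map_pow, zpow_sub₀ hπ, zpow_natCast]
    field_simp

/-- Finitely many prime elements can be corrected simultaneously. -/
theorem exists_correction (T : Finset R) (hT : ∀ p ∈ T, Prime p)
    (hna : ∀ p ∈ T, ∀ q ∈ T, p ∣ q → p = q) (c : R → (Spec R).functionField) (hc : ∀ p, c p ≠ 0) :
    ∃ f : (Spec R).functionField, f ≠ 0 ∧ (∀ (p : R) (hp : Prime p), p ∈ T → IsUnitAt (primePt hp) (f * c p)) ∧
      (∀ (q : R) (hq : Prime q), (∀ p ∈ T, ¬ q ∣ p) → IsUnitAt (primePt hq) f) := by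
  classical
  induction T using Finset.induction_on with
  | empty => exact ⟨1, one_ne_zero, fun p _ h => absurd h (Finset.notMem_empty p), fun q _ _ => IsUnitAt.one⟩
  | insert p T hpT ih =>
    obtain ⟨f, hf0, hf1, hf2⟩ := ih (fun q hq => hT q (Finset.mem_insert_of_mem hq))
      (fun q hq r hr => hna q (Finset.mem_insert_of_mem hq) r (Finset.mem_insert_of_mem hr))
    have hp := hT p (Finset.mem_insert_self p T)
    obtain ⟨n, hn⟩ := exists_zpow_isUnitAt hp (mul_ne_zero hf0 (hc p))
    have hπ : algebraMap R (Spec R).functionField p ≠ 0 :=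
      IsFractionRing.to_map_ne_zero_of_mem_nonZeroDivisors (mem_nonZeroDivisors_of_ne_zero hp.ne_zero)
    have hpow : ∀ (q : R) (hq : Prime q), ¬ q ∣ p →
        IsUnitAt (primePt hq) (algebraMap R (Spec R).functionField p ^ n) := by
      intro q hq hqp
      have h1 : IsUnitAt (primePt hq) (algebraMap R (Spec R).functionField p) :=
        isUnitAt_algebraMap (fun h => hqp (Ideal.mem_span_singleton.mp h))
      have hnat : ∀ m : ℕ, IsUnitAt (primePt hq) (algebraMap R (Spec R).functionField p ^ m) := fun m => by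
        induction m with
        | zero => rw [pow_zero]; exact IsUnitAt.one
        | succ m ihm => rw [pow_succ]; exact ihm.mul h1
      obtain ⟨m, rfl | rfl⟩ := n.eq_nat_or_neg
      · rw [zpow_natCast]; exact hnat m
      · rw [zpow_neg, zpow_natCast]; exact (hnat m).inv
    refine ⟨f * algebraMap R (Spec R).functionField p ^ n, mul_ne_zero hf0 (zpow_ne_zero _ hπ), ?_, ?_⟩
    · intro q hq hqm
      rcases Finset.mem_insert.mp hqm with rfl | hqT
      · rwa [mul_right_comm]
      · rw [mul_right_comm]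
        refine (hf1 q hq hqT).mul (hpow q hq fun h => hpT ?_)
        rw [← hna q (Finset.mem_insert_of_mem hqT) p (Finset.mem_insert_self p T) h]
        exact hqT
    · intro q hq h
      exact (hf2 q hq fun r hr => h r (Finset.mem_insert_of_mem hr)).mul
        (hpow q hq (h p (Finset.mem_insert_self p T)))

/-- On an open of the spectrum of a UFD a module with local generators has a global generator. -/
theorem exists_gen_of_local (M : (Spec R).Modules) (U : (Spec R).Opens)
    (hM : ∀ x ∈ U, ∃ (V : (Spec R).Opens) (e : Γ(M, V)), x ∈ V ∧ V ≤ U ∧ IsGen M V e) :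
    ∃ s : Γ(M, U), IsGen M U s := by
  classical
  by_cases hU : (U : Set (Spec R)).Nonempty
  swap
  · exact exists_gen_of_glue (ι := PEmpty.{u + 1}) (fun i => i.elim) (fun i => i.elim) (fun i => i.elim)
      (fun i => i.elim) U (fun i => i.elim) fun y hy => absurd ⟨y, hy⟩ hU
  obtain ⟨x₀, hx₀⟩ := hU
  choose V e hxV hVU he using fun x : U => hM x.1 x.2
  let i₀ : U := ⟨x₀, hx₀⟩
  choose c hc using fun i => exists_isRatio (e := e i₀) (he i) (hxV i₀) (hxV i)
  -- a basic open inside the base chart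
  obtain ⟨_, ⟨g, rfl⟩, hg, hgV⟩ := PrimeSpectrum.isTopologicalBasis_basic_opens.exists_subset_of_mem_open
    (hxV i₀) (V i₀).2
  have hg0 : g ≠ 0 := fun h => by
    subst h
    exact hg (Submodule.zero_mem _)
  let T₀ : Finset R := (UniqueFactorizationMonoid.factors g).toFinset
  -- one representative for each class of prime factors
  obtain ⟨T, hTsub, hTna, hTcov⟩ : ∃ T ⊆ T₀, (∀ p ∈ T, ∀ q ∈ T, p ∣ q → p = q) ∧
      ∀ q ∈ T₀, ∃ p ∈ T, q ∣ p := by
    have hpr : ∀ q ∈ T₀, Prime q := fun q hq =>
      UniqueFactorizationMonoid.prime_of_factor q (Multiset.mem_toFinset.mp hq)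
    clear_value T₀
    induction T₀ using Finset.induction_on with
    | empty => exact ⟨∅, subset_rfl, by simp, by simp⟩
    | insert q T₀ hq ih =>
      obtain ⟨T, h1, h2, h3⟩ := ih fun r hr => hpr r (Finset.mem_insert_of_mem hr)
      by_cases hex : ∃ p ∈ T, q ∣ p
      · refine ⟨T, h1.trans (Finset.subset_insert _ _), h2, fun r hr => ?_⟩
        rcases Finset.mem_insert.mp hr with rfl | hr
        exacts [hex, h3 r hr]
      · push Not at hex
        refine ⟨insert q T, Finset.insert_subset_insert _ h1, ?_, fun r hr => ?_⟩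
        · intro a ha b hb hab
          rcases Finset.mem_insert.mp ha with ha' | ha' <;> rcases Finset.mem_insert.mp hb with hb' | hb'
          · rw [ha', hb']
          · exact absurd (ha' ▸ hab) (hex b hb')
          · refine absurd ?_ (hex a ha')
            have hass : Associated a b :=
              (hpr a (Finset.mem_insert_of_mem (h1 ha'))).associated_of_dvd
                (hpr b (by rw [hb']; exact Finset.mem_insert_self q T₀)) hab
            exact hb' ▸ hass.symm.dvd
          · exact h2 a ha' b hb' hab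
        · rcases Finset.mem_insert.mp hr with rfl | hr
          · exact ⟨r, Finset.mem_insert_self _ _, dvd_rfl⟩
          · obtain ⟨p, hp, hrp⟩ := h3 r hr
            exact ⟨p, Finset.mem_insert_of_mem hp, hrp⟩
  have hTpr : ∀ p ∈ T, Prime p := fun p hp =>
    UniqueFactorizationMonoid.prime_of_factor p (Multiset.mem_toFinset.mp (hTsub hp))
  have hcne : ∀ i, c i ≠ 0 := fun i => by
    obtain ⟨z, hz⟩ := exists_common_point (hxV i₀) (hxV i)
    exact ((hc i).isUnitAt (he i₀) (he i) hz.1 hz.2).ne_zero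
  let cp : R → (Spec R).functionField := fun p =>
    if h : ∃ hp : Prime p, primePt hp ∈ U then c ⟨_, h.2⟩ else 1
  obtain ⟨f, hf0, hfT, hfnT⟩ := exists_correction T hTpr hTna cp fun p => by
    simp only [cp]; split_ifs with h
    exacts [hcne _, one_ne_zero]
  refine exists_gen_of_correction V (fun i => i.1) hxV e he i₀ c hc f (fun i x hx => ?_) U hVU
    (fun y hy => Opens.mem_iSup.mpr ⟨⟨y, hy⟩, hxV _⟩)
  refine isUnitAt_of_forall_primePt (mul_ne_zero hf0 (hcne i)) fun p hp hpx => ?_
  have hpV : primePt hp ∈ V i := (primePt_specializes hp hpx).mem_open (V i).2 hx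
  by_cases hdvd : ∃ q ∈ T, p ∣ q
  · obtain ⟨q, hqT, hpq⟩ := hdvd
    have heq : primePt hp = primePt (hTpr q hqT) := PrimeSpectrum.ext
      (Ideal.span_singleton_eq_span_singleton.mpr (hp.associated_of_dvd (hTpr q hqT) hpq))
    rw [heq] at hpV ⊢
    have hh : ∃ hq : Prime q, primePt hq ∈ U := ⟨hTpr q hqT, hVU i hpV⟩
    have h1 := hfT q (hTpr q hqT) hqT
    simp only [cp, dif_pos hh] at h1
    set j : U := ⟨_, hh.2⟩
    obtain ⟨r, hr⟩ := exists_isRatio (e := e j) (he i) (hxV j) (hxV i)
    rw [show c i = c j * r from (hc i).unique (he i) ((hc j).trans hr), ← mul_assoc]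
    exact h1.mul (hr.isUnitAt (he j) (he i) (hxV j) hpV)
  · push Not at hdvd
    refine (hfnT p hp hdvd).mul ((hc i).isUnitAt (he i₀) (he i) (hgV ?_) hpV)
    show g ∉ Ideal.span {p}
    rw [Ideal.mem_span_singleton]
    intro hpg
    obtain ⟨q, hq, hpq⟩ := UniqueFactorizationMonoid.exists_mem_factors_of_dvd hg0 hp.irreducible hpg
    obtain ⟨t, ht, hqt⟩ := hTcov q (Multiset.mem_toFinset.mpr hq)
    exact hdvd t ht (hpq.dvd.trans hqt)

theorem nonempty_iso_structureModule (U : (Spec R).Opens) (L : (U : Scheme.{u}).Modules)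
    (hL : PicF.IsInvertible L) : Nonempty (L ≅ Coh.structureModule (U : Scheme.{u})) := by
  obtain ⟨s, hs⟩ := exists_gen_of_local ((Scheme.Modules.pushforward U.ι).obj L) U
    fun x hx => exists_gen_nhd_pushforward L hL hx
  obtain ⟨φ⟩ := exists_iso_of_gen hs
  exact ⟨((Scheme.Modules.restrictFunctorAdjCounitIso U.ι).app L).symm ≪≫ φ⟩

end Spec

end GrothLib.InvExt
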