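import Groth.Agent.Lib.InvExt.Chart
import Groth.Agent.Lib.InvExt.Transfer
import Groth.Agent.Lib.QCoh.Sub
import Mathlib

/-!
Invertible modules extend across points with factorial local rings.
-/

set_option linter.style.header false
set_option linter.style.haveILetI false
set_option linter.overlappingInstances false

universe u

open CategoryTheory Limits AlgebraicGeometry Opposite TopologicalSpace

namespace GrothLib.InvExt

variable {X : Scheme.{u}}

theorem RegP.mul_unitP {A K : Type u} [CommRing A] [Field K] [Algebra A K] {P : Ideal A} [P.IsPrime]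
    {c d : K} (hc : RegP P c) (hd : UnitP P d) : RegP P (c * d) := by
  obtain ⟨a, b, hb, e⟩ := hc
  obtain ⟨a', b', -, hb', e'⟩ := hd
  exact ⟨a * a', b * b', ‹P.IsPrime›.mul_notMem hb hb', by rw [map_mul, map_mul, ← e, ← e']; ring⟩

/-- Near a point whose local ring is a domain a locally Noetherian scheme is an integral affine scheme. -/
theorem exists_integral_affine_nhd [IsLocallyNoetherian X] (x : X) [IsDomain (X.presheaf.stalk x)] :
    ∃ (R : CommRingCat.{u}) (_ : IsDomain R) (_ : IsNoetherianRing R) (φ : Spec R ⟶ X) (_ : IsOpenImmersion φ)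
      (z : Spec R), φ z = x := by
  obtain ⟨_, ⟨U, hU, rfl⟩, hxU, -⟩ :=
    X.isBasis_affineOpens.exists_subset_of_mem_open (Set.mem_univ x) isOpen_univ
  haveI : IsNoetherianRing Γ(X, U) := IsLocallyNoetherian.component_noetherian ⟨U, hU⟩
  let P := hU.primeIdealOf ⟨x, hxU⟩
  letI := X.presheaf.algebra_section_stalk (U := U) ⟨x, hxU⟩
  haveI := hU.isLocalization_stalk ⟨x, hxU⟩
  let K0 := RingHom.ker (algebraMap Γ(X, U) (X.presheaf.stalk x))
  obtain ⟨G, hG⟩ := IsNoetherian.noetherian K0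
  have hkill : ∀ r ∈ K0, ∃ s : P.asIdeal.primeCompl, (s : Γ(X, U)) * r = 0 := fun r hr =>
    (IsLocalization.map_eq_zero_iff P.asIdeal.primeCompl (X.presheaf.stalk x) r).mp hr
  classical
  choose! t ht using hkill
  let s : Γ(X, U) := ∏ g ∈ G, (t g : Γ(X, U))
  have hs : s ∈ P.asIdeal.primeCompl := Submonoid.prod_mem _ fun g _ => (t g).2
  have hsK : ∀ r ∈ K0, s * r = 0 := by
    intro r hr
    rw [← hG] at hr
    induction hr using Submodule.span_induction with
    | mem g hg =>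
      obtain ⟨c, hc⟩ := Finset.dvd_prod_of_mem (fun g => (t g : Γ(X, U))) hg
      rw [show s = (t g : Γ(X, U)) * c from hc, mul_right_comm,
        ht g (hG ▸ Submodule.subset_span hg), zero_mul]
    | zero => rw [mul_zero]
    | add a b _ _ ha hb => rw [mul_add, ha, hb, add_zero]
    | smul a b _ hb => rw [smul_eq_mul, mul_left_comm, hb, mul_zero]
  let R : CommRingCat.{u} := Γ(X, X.basicOpen s)
  letI : Algebra Γ(X, U) R := (X.presheaf.map (homOfLE (X.basicOpen_le s)).op).hom.toAlgebra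
  haveI : IsLocalization.Away s R := hU.isLocalization_basicOpen s
  haveI : IsNoetherianRing R := IsLocalization.isNoetherianRing (Submonoid.powers s) _ inferInstance
  have hxs : x ∈ X.basicOpen s := by
    rw [X.mem_basicOpen s x hxU]
    exact IsLocalization.map_units (X.presheaf.stalk x) (⟨s, hs⟩ : P.asIdeal.primeCompl)
  let ψ : R →+* X.presheaf.stalk x := IsLocalization.Away.lift s
    (g := algebraMap Γ(X, U) (X.presheaf.stalk x))
    (IsLocalization.map_units (X.presheaf.stalk x) (⟨s, hs⟩ : P.asIdeal.primeCompl))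
  have hψ : Function.Injective ψ := by
    rw [injective_iff_map_eq_zero]
    intro a ha
    obtain ⟨⟨r, w⟩, hrw⟩ := IsLocalization.surj (Submonoid.powers s) a
    have hr : r ∈ K0 := by
      have := congrArg ψ hrw
      rw [map_mul, ha, zero_mul] at this
      rw [RingHom.mem_ker, ← IsLocalization.Away.lift_eq (S := R) s
        (IsLocalization.map_units (X.presheaf.stalk x) (⟨s, hs⟩ : P.asIdeal.primeCompl))]
      exact this.symm
    have h0 : algebraMap Γ(X, U) R r = 0 :=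
      (IsLocalization.map_eq_zero_iff (Submonoid.powers s) R r).mpr ⟨⟨s, Submonoid.mem_powers s⟩, hsK r hr⟩
    rw [h0] at hrw
    exact (IsUnit.mul_left_eq_zero (IsLocalization.map_units R w)).mp hrw
  refine ⟨R, hψ.isDomain ψ, inferInstance, (hU.basicOpen s).fromSpec, inferInstance,
    (hU.basicOpen s).primeIdealOf ⟨x, hxs⟩, ?_⟩
  exact (hU.basicOpen s).fromSpec_primeIdealOf ⟨x, hxs⟩

section Main

variable [IsLocallyNoetherian X] (U : X.Opens) (L : (U : Scheme.{u}).Modules)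

/-- The pushforward of the module. -/
noncomputable abbrev push : X.Modules := (Scheme.Modules.pushforward U.ι).obj L

/-- Regularity along prescribed generators at the chosen points outside `U`. -/
def cond (Q : Set X) (D N : Q → X.Opens) (e : ∀ q, Γ(push U L, D q)) (V : X.Opens)
    (m : Γ(push U L, V)) : Prop :=
  ∀ q : Q, (q : X) ∈ V → ∃ (O : X.Opens) (hOV : O ≤ V) (a : Γ(X, O)), (q : X) ∈ O ∧ O ≤ N q ∧
    mres (push U L) (inf_le_left.trans hOV : O ⊓ D q ≤ V) m =
      fres X (inf_le_left : O ⊓ D q ≤ O) a • mres (push U L) (inf_le_right : O ⊓ D q ≤ D q) (e q)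

/-- The submodule cut out by the conditions. -/
noncomputable def subData (Q : Set X) (D N : Q → X.Opens) (hN : ∀ q : Q, (q : X) ∈ N q)
    (e : ∀ q, Γ(push U L, D q)) : QCoh.SubData (push U L) where
  sec V :=
    { carrier := {m | cond U L Q D N e V m}
      zero_mem' := fun q hq => ⟨V ⊓ N q, inf_le_left, 0, ⟨hq, hN q⟩, inf_le_right, by
        rw [show fres X (inf_le_left : V ⊓ N q ⊓ D q ≤ V ⊓ N q) (0 : Γ(X, V ⊓ N q)) = 0 from map_zero _,
          zero_smul]
        exact map_zero _⟩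
      add_mem' := by
        intro m m' hm hm' q hq
        obtain ⟨O, hOV, a, hqO, hON, ha⟩ := hm q hq
        obtain ⟨O', hOV', a', hqO', hON', ha'⟩ := hm' q hq
        refine ⟨O ⊓ O', inf_le_left.trans hOV, fres X inf_le_left a + fres X inf_le_right a',
          ⟨hqO, hqO'⟩, inf_le_left.trans hON, ?_⟩
        have h1 := congrArg (mres (push U L) (inf_le_inf_right (D q) inf_le_left : (O ⊓ O') ⊓ D q ≤ O ⊓ D q)) ha
        have h2 := congrArg (mres (push U L) (inf_le_inf_right (D q) inf_le_right : (O ⊓ O') ⊓ D q ≤ O' ⊓ D q)) ha'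
        simp only [mres_smul, mres_mres, fres_fres] at h1 h2
        have hadd : ∀ (h : O ⊓ O' ⊓ D q ≤ V), mres (push U L) h (m + m') =
            mres (push U L) h m + mres (push U L) h m' := fun h => map_add _ _ _
        rw [hadd, h1, h2, ← add_smul]
        congr 1
        simp only [fres, map_add]
        simp only [← ConcreteCategory.comp_apply, ← Functor.map_comp]
        rfl
      smul_mem' := by
        intro r m hm q hq
        obtain ⟨O, hOV, a, hqO, hON, ha⟩ := hm q hq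
        refine ⟨O, hOV, fres X hOV r * a, hqO, hON, ?_⟩
        rw [mres_smul, ha, smul_smul]
        congr 1
        simp only [fres, map_mul]
        simp only [← ConcreteCategory.comp_apply, ← Functor.map_comp]
        rfl }
  map_mem := by
    intro V V' i m hm q hq
    obtain ⟨O, hOV, a, hqO, hON, ha⟩ := hm q (i.le hq)
    refine ⟨O ⊓ V', inf_le_right, fres X inf_le_left a, ⟨hqO, hq⟩, inf_le_left.trans hON, ?_⟩
    have h1 := congrArg (mres (push U L) (inf_le_inf_right (D q) inf_le_left : O ⊓ V' ⊓ D q ≤ O ⊓ D q)) ha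
    simp only [mres_smul, mres_mres, fres_fres] at h1
    show mres (push U L) _ (mres (push U L) i.le m) = _
    rw [mres_mres, h1, fres_fres]
  locality := by
    intro V m h q hq
    obtain ⟨V', i, hqV', hm⟩ := h q hq
    obtain ⟨O, hOV, a, hqO, hON, ha⟩ := hm q hqV'
    refine ⟨O, hOV.trans i.le, a, hqO, hON, ?_⟩
    rw [← ha]
    exact (mres_mres (push U L) i.le (inf_le_left.trans hOV) m).symm

/-- The hard case: a point outside `U` in the closure of `U`. -/
theorem exists_gen_subData_of_mem_closure (hL : PicF.IsInvertible L)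
    (hufd : ∀ y : X, y ∉ U → UniqueFactorizationMonoid (X.presheaf.stalk y) ∧ IsDomain (X.presheaf.stalk y))
    (Q : Set X) (hQ : ∀ y : X, y ∉ U → y ∈ closure (U : Set X) → ringKrullDim (X.presheaf.stalk y) ≤ 1 → y ∈ Q)
    (hQU : ∀ q ∈ Q, q ∉ U)
    (hQdim : ∀ q ∈ Q, ringKrullDim (X.presheaf.stalk q) ≤ 1)
    (D N : Q → X.Opens) (hN : ∀ q : Q, (q : X) ∈ N q) (hDU : ∀ q, D q ≤ U)
    (hmeet : ∀ (q : Q) (O : X.Opens), (q : X) ∈ O → ∃ y, y ∈ O ⊓ D q)
    (e : ∀ q, Γ(push U L, D q)) (he : ∀ q, IsGen (push U L) (D q) (e q))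
    (x : X) (hxU : x ∉ U) (hxc : x ∈ closure (U : Set X)) :
    ∃ (V : X.Opens) (G : Γ((subData U L Q D N hN e).obj, V)), x ∈ V ∧
      Disjoint (V : Set X) (closure (U : Set X))ᶜ ∧ IsGen (subData U L Q D N hN e).obj V G := by
  classical
  haveI := (hufd x hxU).2
  obtain ⟨R, hR, hRn, φ, hφ, z, rfl⟩ := exists_integral_affine_nhd x
  let M' := (push U L).restrict φ
  let U' : (Spec R).Opens := φ ⁻¹ᵁ U
  -- transfer of local rings
  have iso : ∀ y : Spec R, Nonempty (X.presheaf.stalk (φ y) ≃+* (Spec R).presheaf.stalk y) := fun y =>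
    ⟨(asIso (φ.stalkMap y)).commRingCatIsoToRingEquiv⟩
  have hufd' : ∀ y : Spec R, y ∉ U' →
      UniqueFactorizationMonoid ((Spec R).presheaf.stalk y) ∧ IsDomain ((Spec R).presheaf.stalk y) := by
    intro y hy
    obtain ⟨g⟩ := iso y
    obtain ⟨h1, h2⟩ := hufd (φ y) hy
    exact ⟨g.toMulEquiv.uniqueFactorizationMonoid h1, g.symm.toMulEquiv.isDomain _⟩
  have hht : ∀ y : Spec R, y.asIdeal.height ≤ 1 ↔ ringKrullDim (X.presheaf.stalk (φ y)) ≤ 1 := by
    intro y
    obtain ⟨g⟩ := iso y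
    letI := stalkAlg y
    haveI := isLocalization_stalk y
    rw [ringKrullDim_eq_of_ringEquiv g,
      IsLocalization.AtPrime.ringKrullDim_eq_height y.asIdeal ((Spec R).presheaf.stalk y)]
    exact_mod_cast Iff.rfl
  obtain ⟨y₀, hy₀⟩ : ∃ y₀, y₀ ∈ U' := by
    obtain ⟨_, ⟨y, rfl⟩, hyU⟩ := mem_closure_iff.mp hxc _ φ.opensRange.2 ⟨z, rfl⟩
    exact ⟨y, hyU⟩
  have hclosure : ∀ y : Spec R, φ y ∈ closure (U : Set X) := by
    intro y
    rw [mem_closure_iff]
    intro O hO hyO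
    obtain ⟨w, hw⟩ : ∃ w, w ∈ U' ⊓ φ ⁻¹ᵁ ⟨O, hO⟩ := exists_common_point hy₀ hyO
    exact ⟨φ w, hw.2, hw.1⟩
  have hQ' : ∀ y : Spec R, y ∉ U' → y.asIdeal.height ≤ 1 → φ y ∈ Q := fun y hy h1 =>
    hQ _ hy (hclosure y) ((hht y).mp h1)
  -- generators on the chart
  have hgen : ∀ y ∈ U', ∃ (V : X.Opens) (g : Γ(push U L, V)), φ y ∈ V ∧ V ≤ U ∧ IsGen (push U L) V g :=
    fun y hy => exists_gen_nhd_pushforward L hL hy
  have htr : ∀ (V : X.Opens), φ ''ᵁ (φ ⁻¹ᵁ V) ≤ V := fun V => by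
    rw [φ.image_preimage_eq_opensRange_inf]; exact inf_le_right
  have hdata : ∀ y : Spec R, ∃ (O : X.Opens) (g : Γ(push U L, O)) (w : Spec R),
      IsGen (push U L) O g ∧ O ≤ U ∧ φ w ∈ O ∧ (y ∈ U' → φ y ∈ O) ∧
        ∀ h : φ y ∈ Q, ∃ hO : O = D ⟨φ y, h⟩, g = mres (push U L) hO.le (e ⟨φ y, h⟩) := by
    intro y
    by_cases hy : y ∈ U'
    · obtain ⟨V, g, hyV, hVU, hg⟩ := hgen y hy
      exact ⟨V, g, y, hg, hVU, hyV, fun _ => hyV, fun h => absurd hy (hQU _ h)⟩
    by_cases hq : φ y ∈ Q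
    · obtain ⟨w, ⟨w', rfl⟩, hwD⟩ := hmeet ⟨φ y, hq⟩ φ.opensRange ⟨y, rfl⟩
      exact ⟨D ⟨φ y, hq⟩, e ⟨φ y, hq⟩, w', he _, hDU _, hwD, fun h => absurd h hy,
        fun _ => ⟨rfl, (mres_self _ _).symm⟩⟩
    · obtain ⟨V, g, hyV, hVU, hg⟩ := hgen y₀ hy₀
      exact ⟨V, g, y₀, hg, hVU, hyV, fun h => absurd h hy, fun h => absurd h hq⟩
  choose O g w hg hOU hwO hyO hOQ using hdata
  let D' : Spec R → (Spec R).Opens := fun y => φ ⁻¹ᵁ O y
  let e' : ∀ y, Γ(M', D' y) := fun y => mres (push U L) (htr (O y)) (g y)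
  have he' : ∀ y, IsGen M' (D' y) (e' y) := fun y => isGen_restrict φ _ ((hg y).restrict (htr (O y)))
  haveI := (hufd' z hxU).1
  haveI := (hufd' z hxU).2
  obtain ⟨s, g₀, hzs, hg₀, hcomp⟩ := exists_gen_compatible M' U' z D' e' he'
    (fun y v hv => hOU y hv) w hwO (fun y hy => hyO y hy)
  -- extend the generator
  let T : (Spec R).Opens := PrimeSpectrum.basicOpen s
  have hres : ∀ (W : (Spec R).Opens),
      Function.Bijective (mres M' (inf_le_right : U' ⊓ W ≤ W)) := fun W =>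
    mres_pushforward_bijective L (Scheme.Hom.image_mono φ inf_le_right) (by
      rintro y ⟨⟨v, hv, rfl⟩, hyU⟩
      exact ⟨v, ⟨hyU, hv⟩, rfl⟩)
  obtain ⟨G, hG⟩ := (hres T).2 g₀
  -- conditions for `G`
  have hGQ : cond U L Q D N e (φ ''ᵁ T) G := by
    rintro ⟨qv, hq⟩ ⟨y, hyT, hyq⟩
    change φ y = qv at hyq
    subst hyq
    have hyU : y ∉ U' := hQU _ hq
    obtain ⟨hO, hgO⟩ := hOQ y hq
    obtain ⟨v, hv⟩ := exists_common_point hy₀ hzs
    obtain ⟨r, hr⟩ := exists_isRatio (e := g₀) (he' y) (show v ∈ U' ⊓ T from hv) (hwO y)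
    obtain ⟨O1, hyO1, a, -, rfl⟩ := hcomp y hyT hyU ((hht y).mpr (hQdim _ hq)) r hr
    let O2 : (Spec R).Opens := O1 ⊓ T ⊓ φ ⁻¹ᵁ N ⟨φ y, hq⟩
    let a₂ : Γ(Spec R, O2) := fres (Spec R) (inf_le_left.trans inf_le_left) a
    refine ⟨φ ''ᵁ O2, Scheme.Hom.image_mono φ (inf_le_left.trans inf_le_right), (φ.appIso O2).inv a₂,
      ⟨y, ⟨⟨hyO1, hyT⟩, hN ⟨φ y, hq⟩⟩, rfl⟩, (Scheme.Hom.image_mono φ inf_le_right).trans (htr _), ?_⟩
    let W2 : (Spec R).Opens := O2 ⊓ D' y
    have hW2T : W2 ≤ T := inf_le_left.trans (inf_le_left.trans inf_le_right)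
    have hW2U : W2 ≤ U' ⊓ T := le_inf (inf_le_right.trans fun u hu => hOU y hu) hW2T
    have hM' : mres M' hW2T G =
        fres (Spec R) (inf_le_left : W2 ≤ O2) a₂ • mres M' (inf_le_right : W2 ≤ D' y) (e' y) := by
      obtain ⟨c, hc⟩ := (he' y).exists_smul_eq (inf_le_right : W2 ≤ D' y) (mres M' hW2U g₀)
      have hGg : mres M' hW2T G = mres M' hW2U g₀ := by rw [← hG, mres_mres]
      rw [hGg, hc]
      congr 1
      by_cases hne : ((W2 : (Spec R).Opens) : Set (Spec R)).Nonempty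
      · obtain ⟨u, hu⟩ := hne
        refine toK_injective u hu ?_
        rw [toK_fres, toK_fres, hr.eval (he' y) hW2U inf_le_right hu hc]
      · exact (he' y).smul_left_injective inf_le_right
          ((subsingleton_sections_of_eq_bot M' (Opens.ext (Set.not_nonempty_iff_eq_empty.mp hne))).elim _ _)
    have hle : φ ''ᵁ O2 ⊓ D ⟨φ y, hq⟩ ≤ φ ''ᵁ W2 := by
      rintro _ ⟨⟨u, hu, rfl⟩, huD⟩
      exact ⟨u, ⟨hu, show φ u ∈ O y from hO ▸ huD⟩, rfl⟩
    have hX : mres (push U L) (Scheme.Hom.image_mono φ hW2T) (show Γ(push U L, φ ''ᵁ T) from G) =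
        fres X (Scheme.Hom.image_mono φ (inf_le_left : W2 ≤ O2)) ((φ.appIso O2).inv a₂) •
          mres (push U L) (Scheme.Hom.image_mono φ (inf_le_right : W2 ≤ D' y))
            (mres (push U L) (htr (O y)) (g y)) := by
      rw [← appIso_inv_fres]
      exact hM'
    have hfin := congrArg (mres (push U L) hle) hX
    simp only [mres_smul, mres_mres, fres_fres, hgO] at hfin
    exact hfin
  let P := subData U L Q D N hN e
  refine ⟨φ ''ᵁ T, P.lift (show Γ(push U L, φ ''ᵁ T) from G) hGQ, ⟨z, hzs, rfl⟩, ?_, ?_⟩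
  · rw [Set.disjoint_left]
    rintro _ ⟨u, -, rfl⟩ hu
    exact hu (hclosure u)
  -- injectivity on the chart
  have hinj : ∀ (W : (Spec R).Opens) (hW : W ≤ T) (c d : Γ(Spec R, W)),
      c • mres M' hW G = d • mres M' hW G → c = d := by
    intro W hW c d hcd
    have h1 := congrArg (mres M' (inf_le_right : U' ⊓ W ≤ W)) hcd
    have h2 : mres M' (inf_le_right.trans hW : U' ⊓ W ≤ T) G = mres M' (inf_le_inf_left U' hW) g₀ := by
      rw [← hG, mres_mres]
    simp only [mres_smul, mres_mres, h2] at h1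
    have h3 := hg₀.smul_left_injective _ h1
    by_cases hne : ((W : (Spec R).Opens) : Set (Spec R)).Nonempty
    · obtain ⟨u, hu⟩ := hne
      obtain ⟨v, hv⟩ := exists_common_point hy₀ hu
      refine toK_injective v hv.2 ?_
      rw [← toK_fres (inf_le_right : U' ⊓ W ≤ W) v hv, h3, toK_fres]
    · haveI : Subsingleton Γ(Spec R, W) := by
        rw [show W = ⊥ from Opens.ext (Set.not_nonempty_iff_eq_empty.mp hne)]; infer_instance
      exact Subsingleton.elim _ _
  -- surjectivity on the chart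
  have hsurj : ∀ (W : (Spec R).Opens) (hW : W ≤ T) (m : Γ(M', W)),
      cond U L Q D N e (φ ''ᵁ W) m → ∃ c : Γ(Spec R, W), c • mres M' hW G = m := by
    intro W hW m hm
    by_cases hne : ((W : (Spec R).Opens) : Set (Spec R)).Nonempty
    swap
    · exact ⟨0, (subsingleton_sections_of_eq_bot M' (Opens.ext (Set.not_nonempty_iff_eq_empty.mp hne))).elim _ _⟩
    obtain ⟨u₁, hu₁⟩ := hne
    obtain ⟨v, hv⟩ := exists_common_point hy₀ hu₁
    obtain ⟨c₀, hc₀⟩ := hg₀.exists_smul_eq (inf_le_inf_left U' hW) (mres M' (inf_le_right : U' ⊓ W ≤ W) m)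
    have hκreg : ∀ y ∈ W, RegP y.asIdeal (toK v hv c₀) := by
      intro y hy
      by_cases hyU : y ∈ U'
      · rw [toK_congr hv (show y ∈ U' ⊓ W from ⟨hyU, hy⟩)]
        exact regP_of_section _ c₀
      haveI := (hufd' y hyU).1
      haveI := (hufd' y hyU).2
      refine regP_of_height_le_one y fun y' hy'y h1 => ?_
      have hy' : y' ∈ W := hy'y.mem_open W.2 hy
      by_cases hy'U : y' ∈ U'
      · rw [toK_congr hv (show y' ∈ U' ⊓ W from ⟨hy'U, hy'⟩)]
        exact regP_of_section _ c₀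
      have hq := hQ' y' hy'U h1
      obtain ⟨hO, hgO⟩ := hOQ y' hq
      obtain ⟨Oq, hOqW, a, hqOq, -, ha⟩ := hm ⟨φ y', hq⟩ ⟨y', hy', rfl⟩
      obtain ⟨r, hr⟩ := exists_isRatio (e := g₀) (he' y') (show v ∈ U' ⊓ T from ⟨hv.1, hW hv.2⟩) (hwO y')
      have hru := (isUnitAt_iff_unitP _ _).mp (hcomp y' (hW hy') hy'U h1 r hr)
      have hru_ne := ((isUnitAt_iff_unitP _ _).mpr hru).ne_zero
      let W3 : (Spec R).Opens := φ ⁻¹ᵁ Oq ⊓ D' y'
      have hW3W : W3 ≤ W := fun u hu => by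
        obtain ⟨u', hu', he⟩ := hOqW hu.1
        exact φ.isOpenEmbedding.injective he ▸ hu'
      have hW3U : W3 ≤ U' := inf_le_right.trans fun u hu => hOU y' hu
      let a₃ : Γ(Spec R, φ ⁻¹ᵁ Oq) := φ.app Oq a
      obtain ⟨u, hu⟩ := exists_common_point (V := φ ⁻¹ᵁ Oq) (V' := D' y') (x := y') (x' := w y') hqOq (hwO y')
      -- the condition on the chart
      have hX : mres (push U L) (Scheme.Hom.image_mono φ hW3W) (show Γ(push U L, φ ''ᵁ W) from m) =
          fres X (Scheme.Hom.image_mono φ (inf_le_left : W3 ≤ φ ⁻¹ᵁ Oq)) ((φ.appIso (φ ⁻¹ᵁ Oq)).inv a₃) •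
            mres (push U L) (Scheme.Hom.image_mono φ (inf_le_right : W3 ≤ D' y'))
              (mres (push U L) (htr (O y')) (g y')) := by
        have hle : φ ''ᵁ W3 ≤ Oq ⊓ D ⟨φ y', hq⟩ := by
          rintro _ ⟨u', hu', rfl⟩
          exact ⟨hu'.1, hO ▸ hu'.2⟩
        have h := congrArg (mres (push U L) hle) ha
        simp only [mres_smul, mres_mres, fres_fres] at h
        rw [h, hgO]
        simp only [mres_mres]
        congr 1
        have ha₃ : (φ.appIso (φ ⁻¹ᵁ Oq)).inv a₃ = fres X (htr Oq) a :=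
          congr($(φ.app_appIso_inv Oq) a)
        rw [ha₃, fres_fres]
      have hM' : mres M' hW3W m = fres (Spec R) (inf_le_left : W3 ≤ φ ⁻¹ᵁ Oq) a₃ •
          mres M' (inf_le_right : W3 ≤ D' y') (e' y') := by
        rw [← appIso_inv_fres] at hX
        exact hX
      obtain ⟨cr, hcr⟩ := (he' y').exists_smul_eq (inf_le_right : W3 ≤ D' y')
        (mres M' (le_inf hW3U (hW3W.trans hW) : W3 ≤ U' ⊓ T) g₀)
      have h1' := congrArg (mres M' (le_inf hW3U hW3W : W3 ≤ U' ⊓ W)) hc₀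
      simp only [mres_smul, mres_mres, hcr, smul_smul] at h1'
      have hcoef := (he' y').smul_left_injective _ (hM'.symm.trans h1')
      have hK := congrArg (toK u hu) hcoef
      haveI : Nonempty W3 := ⟨⟨u, hu⟩⟩
      rw [show toK u hu (fres (Spec R) (le_inf hW3U hW3W) c₀ * cr) =
          toK u hu (fres (Spec R) (le_inf hW3U hW3W) c₀) * toK u hu cr from map_mul _ _ _,
        toK_fres, toK_fres, hr.eval (he' y') _ _ hu hcr, toK_congr _ (show y' ∈ φ ⁻¹ᵁ Oq from hqOq) a₃, toK_congr _ hv c₀] at hK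
      rw [(eq_div_iff hru_ne).mpr hK.symm, div_eq_mul_inv]
      exact RegP.mul_unitP (regP_of_section (show y' ∈ φ ⁻¹ᵁ Oq from hqOq) a₃) hru.inv
    obtain ⟨c, hc⟩ := exists_section_of_regP hu₁ hκreg
    refine ⟨c, (hres W).1 ?_⟩
    have h2 : mres M' (inf_le_right.trans hW : U' ⊓ W ≤ T) G = mres M' (inf_le_inf_left U' hW) g₀ := by
      rw [← hG, mres_mres]
    rw [mres_smul, mres_mres, h2, hc₀]
    congr 1
    refine toK_injective v hv ?_
    rw [toK_fres, toK_congr hv.2 hu₁, hc]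
  intro W hW
  obtain ⟨W', rfl⟩ : ∃ W' : (Spec R).Opens, φ ''ᵁ W' = W := ⟨φ ⁻¹ᵁ W, by
    rw [φ.image_preimage_eq_opensRange_inf]
    exact inf_eq_right.mpr (hW.trans (φ.image_le_opensRange T))⟩
  have hW' : W' ≤ T := fun u hu => by
    obtain ⟨u', hu', he⟩ := hW ⟨u, hu, rfl⟩
    exact φ.isOpenEmbedding.injective he ▸ hu'
  have hsm : ∀ c : Γ(X, φ ''ᵁ W'), P.ι.app _ (c • mres P.obj hW (P.lift _ hGQ)) =
      c • mres (push U L) hW (show Γ(push U L, φ ''ᵁ T) from G) := fun c => by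
    rw [Scheme.Modules.Hom.app_smul, ← mres_app]
    rfl
  have hconv : ∀ c : Γ(X, φ ''ᵁ W'), (show Γ(push U L, φ ''ᵁ W') from
      ((φ.appIso W').hom c • mres M' hW' G : Γ(M', W'))) =
      c • mres (push U L) hW (show Γ(push U L, φ ''ᵁ T) from G) := fun c => by
    show (φ.appIso W').inv ((φ.appIso W').hom c) • mres (push U L) hW (show Γ(push U L, φ ''ᵁ T) from G) = _
    rw [← CommRingCat.comp_apply, Iso.hom_inv_id]
    rfl
  constructor
  · intro c d hcd
    have h := congrArg (P.ι.app _) hcd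
    rw [hsm, hsm, ← hconv, ← hconv] at h
    exact (φ.appIso W').commRingCatIsoToRingEquiv.injective (hinj W' hW' _ _ h)
  · intro m
    obtain ⟨c, hc⟩ := hsurj W' hW' (show Γ(push U L, φ ''ᵁ W') from P.ι.app _ m) (P.ι_app_mem m)
    refine ⟨(φ.appIso W').inv c, P.ι_app_injective _ ?_⟩
    rw [hsm, ← hconv, ← CommRingCat.comp_apply, Iso.inv_hom_id]
    exact hc

end Main

end GrothLib.InvExt
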