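import Mathlib

set_option linter.style.header false

/-!
Fractions in a unique factorisation domain tested at the principal primes.
-/

universe u

namespace GrothLib.InvExt

variable {A : Type u} [CommRing A] {K : Type u} [Field K] [Algebra A K]

/-- The fraction is regular at the prime. -/
def RegP (P : Ideal A) (c : K) : Prop :=
  ∃ a b : A, b ∉ P ∧ c * algebraMap A K b = algebraMap A K a

/-- The fraction is a unit at the prime. -/
def UnitP (P : Ideal A) (c : K) : Prop :=
  ∃ a b : A, a ∉ P ∧ b ∉ P ∧ c * algebraMap A K b = algebraMap A K a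

theorem UnitP.regP {P : Ideal A} {c : K} (h : UnitP P c) : RegP P c :=
  let ⟨a, b, _, hb, e⟩ := h; ⟨a, b, hb, e⟩

theorem UnitP.one {P : Ideal A} [P.IsPrime] : UnitP P (1 : K) :=
  have h1 : (1 : A) ∉ P := fun h => ‹P.IsPrime›.ne_top (P.eq_top_iff_one.mpr h)
  ⟨1, 1, h1, h1, by rw [map_one, mul_one]⟩

theorem UnitP.mul {P : Ideal A} [P.IsPrime] {c d : K} (hc : UnitP P c) (hd : UnitP P d) :
    UnitP P (c * d) := by
  obtain ⟨a, b, ha, hb, e⟩ := hc
  obtain ⟨a', b', ha', hb', e'⟩ := hd
  exact ⟨a * a', b * b', ‹P.IsPrime›.mul_notMem ha ha', ‹P.IsPrime›.mul_notMem hb hb',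
    by rw [map_mul, map_mul, ← e, ← e']; ring⟩

theorem UnitP.inv {P : Ideal A} {c : K} [IsDomain A] [FaithfulSMul A K] (hc : UnitP P c) :
    UnitP P c⁻¹ := by
  obtain ⟨a, b, ha, hb, e⟩ := hc
  refine ⟨b, a, hb, ha, ?_⟩
  by_cases hc0 : c = 0
  · rw [hc0, zero_mul, eq_comm, map_eq_zero_iff _ (FaithfulSMul.algebraMap_injective A K)] at e
    exact absurd (e ▸ P.zero_mem) ha
  rw [← e, inv_mul_cancel_left₀ hc0]

theorem UnitP.zpow {P : Ideal A} [P.IsPrime] [IsDomain A] [FaithfulSMul A K] {c : K} (hc : UnitP P c)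
    (n : ℤ) : UnitP P (c ^ n) := by
  have hnat : ∀ m : ℕ, UnitP P (c ^ m) := fun m => by
    induction m with
    | zero => rw [pow_zero]; exact UnitP.one
    | succ m ih => rw [pow_succ]; exact ih.mul hc
  obtain ⟨m, rfl | rfl⟩ := n.eq_nat_or_neg
  · rw [zpow_natCast]; exact hnat m
  · rw [zpow_neg, zpow_natCast]; exact (hnat m).inv

theorem unitP_algebraMap {P : Ideal A} [P.IsPrime] {a : A} (ha : a ∉ P) :
    UnitP P (algebraMap A K a) :=
  ⟨a, 1, ha, fun h => ‹P.IsPrime›.ne_top (P.eq_top_iff_one.mpr h), by rw [map_one, mul_one]⟩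

variable [IsDomain A] [UniqueFactorizationMonoid A] [IsFractionRing A K]

theorem exists_zpow_unitP {p : A} (hp : Prime p) {c : K} (hc0 : c ≠ 0) :
    ∃ n : ℤ, UnitP (Ideal.span {p}) (algebraMap A K p ^ n * c) := by
  obtain ⟨a, b, hb, rfl⟩ := IsFractionRing.div_surjective A c
  have ha0 : a ≠ 0 := fun h => hc0 (by rw [h, map_zero, zero_div])
  have hb0 : b ≠ 0 := nonZeroDivisors.ne_zero hb
  obtain ⟨i, a', ha', rfl⟩ := WfDvdMonoid.max_power_factor ha0 hp.irreducible
  obtain ⟨j, b', hb', rfl⟩ := WfDvdMonoid.max_power_factor hb0 hp.irreducible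
  refine ⟨(j : ℤ) - i, a', b', fun h => ha' (Ideal.mem_span_singleton.mp h),
    fun h => hb' (Ideal.mem_span_singleton.mp h), ?_⟩
  have hπ : algebraMap A K p ≠ 0 :=
    IsFractionRing.to_map_ne_zero_of_mem_nonZeroDivisors (mem_nonZeroDivisors_of_ne_zero hp.ne_zero)
  have hb'0 : algebraMap A K b' ≠ 0 :=
    IsFractionRing.to_map_ne_zero_of_mem_nonZeroDivisors
      (mem_nonZeroDivisors_of_ne_zero fun h => hb' (h ▸ dvd_zero p))
  simp only [map_mul, map_pow, zpow_sub₀ hπ, zpow_natCast]
  field_simp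

/-- Prescribed orders at finitely many principal primes are achieved by a fraction. -/
theorem exists_unitP_correction {g : A} (hg : g ≠ 0) : ∀ (c : Ideal A → K), (∀ P, c P ≠ 0) →
    (∀ p : A, Prime p → ¬ p ∣ g → UnitP (Ideal.span {p}) (c (Ideal.span {p}))) →
    ∃ f : K, f ≠ 0 ∧ ∀ p : A, Prime p → UnitP (Ideal.span {p}) (f * c (Ideal.span {p})) := by
  induction g using UniqueFactorizationMonoid.induction_on_prime with
  | h₁ => exact absurd rfl hg
  | h₂ u hu =>
    intro c _ hc
    exact ⟨1, one_ne_zero, fun p hp => by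
      rw [one_mul]; exact hc p hp fun h => hp.not_isUnit (isUnit_of_dvd_unit h hu)⟩
  | h₃ a p ha hp ih =>
    intro c hc0 hc
    obtain ⟨n, hn⟩ := exists_zpow_unitP hp (hc0 (Ideal.span {p}))
    have hπ : algebraMap A K p ^ n ≠ 0 := zpow_ne_zero _
      (IsFractionRing.to_map_ne_zero_of_mem_nonZeroDivisors (mem_nonZeroDivisors_of_ne_zero hp.ne_zero))
    obtain ⟨f, hf0, hf⟩ := ih ha (fun P => algebraMap A K p ^ n * c P) (fun P => mul_ne_zero hπ (hc0 P))
      fun q hq hqa => by
        by_cases hqp : q ∣ p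
        · rw [Ideal.span_singleton_eq_span_singleton.mpr (hq.associated_of_dvd hp hqp)]
          exact hn
        · haveI : (Ideal.span {q}).IsPrime := (Ideal.span_singleton_prime hq.ne_zero).mpr hq
          exact ((unitP_algebraMap fun h => hqp (Ideal.mem_span_singleton.mp h)).zpow n).mul
            (hc q hq fun h => (hq.dvd_or_dvd h).elim hqp hqa)
    exact ⟨f * algebraMap A K p ^ n, mul_ne_zero hf0 hπ, fun q hq => by
      rw [mul_assoc]; exact hf q hq⟩

/-- The denominator of a fraction regular away from `g` divides a power of `g`. -/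
theorem exists_pow_mul_mem_range {g : A} {c : K}
    (h : ∀ p : A, Prime p → ¬ p ∣ g → RegP (Ideal.span {p}) c) :
    ∃ (n : ℕ) (a : A), c * algebraMap A K g ^ n = algebraMap A K a := by
  have key : c * algebraMap A K (IsFractionRing.den A c) = algebraMap A K (IsFractionRing.num A c) := by
    have := IsFractionRing.mk'_num_den A c
    rw [IsLocalization.mk'_eq_iff_eq_mul] at this
    exact this.symm
  have hp : ∀ p : A, Prime p → p ∣ (IsFractionRing.den A c : A) → p ∣ g := by
    intro p hp hpd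
    by_contra hpg
    obtain ⟨a, b, hb, e⟩ := h p hp hpg
    rw [Ideal.mem_span_singleton] at hb
    have heq : IsFractionRing.num A c * b = a * (IsFractionRing.den A c : A) := by
      apply IsFractionRing.injective A K
      rw [map_mul, map_mul, ← key, ← e]; ring
    exact hp.not_isUnit (IsFractionRing.num_den_reduced A c
      ((hp.dvd_or_dvd (heq.symm ▸ hpd.mul_left a : p ∣ IsFractionRing.num A c * b)).resolve_right hb) hpd)
  have hd0 : (IsFractionRing.den A c : A) ≠ 0 := nonZeroDivisors.ne_zero (IsFractionRing.den A c).2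
  obtain ⟨n, d', hd'⟩ : ∃ (n : ℕ) (d' : A), g ^ n = (IsFractionRing.den A c : A) * d' := by
    have : ∀ d : A, d ≠ 0 → (∀ p, Prime p → p ∣ d → p ∣ g) → ∃ n : ℕ, d ∣ g ^ n := by
      intro d
      induction d using UniqueFactorizationMonoid.induction_on_prime with
      | h₁ => exact fun h => absurd rfl h
      | h₂ u hu => exact fun _ _ => ⟨0, by rw [pow_zero]; exact hu.dvd⟩
      | h₃ a p ha hp' ih =>
        intro _ hall
        obtain ⟨n, hn⟩ := ih ha fun q hq hqa => hall q hq (hqa.mul_left p)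
        exact ⟨n + 1, by rw [pow_succ']; exact mul_dvd_mul (hall p hp' (dvd_mul_right p a)) hn⟩
    obtain ⟨n, hn⟩ := this _ hd0 hp
    exact ⟨n, hn⟩
  exact ⟨n, IsFractionRing.num A c * d', by rw [← map_pow, hd', map_mul, map_mul, ← key, mul_assoc]⟩

theorem mem_range_of_forall_regP {c : K} (h : ∀ p : A, Prime p → RegP (Ideal.span {p}) c) :
    c ∈ (algebraMap A K).range := by
  obtain ⟨n, a, e⟩ := exists_pow_mul_mem_range (g := 1) (c := c) fun p hp _ => h p hp
  exact ⟨a, by rw [← e, map_one, one_pow, mul_one]⟩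

end GrothLib.InvExt
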