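import Groth.Agent.Lib.InvExt.UFD
import Groth.Agent.Lib.InvExt.PrimeCorr
import Mathlib

/-!
Extending invertible modules on an affine integral Noetherian chart across a point with factorial local
ring.
-/

set_option linter.style.header false
set_option linter.style.haveILetI false
set_option linter.unusedSectionVars false
set_option linter.overlappingInstances false

universe u

open CategoryTheory Limits AlgebraicGeometry Opposite TopologicalSpace

namespace GrothLib.InvExt

theorem eq_of_le_of_height_le_one {R : Type u} [CommRing R] [IsDomain R] [IsNoetherianRing R]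
    {P Q : Ideal R} [P.IsPrime] [Q.IsPrime] (h : P ≤ Q) (hP : P ≠ ⊥) (hQ : Q.height ≤ 1) : P = Q := by
  by_contra hne
  have h1 : P.height < Q.height := Ideal.height_strict_mono_of_isPrime (lt_of_le_of_ne h hne)
  have h2 : (⊥ : Ideal R).height < P.height :=
    Ideal.height_strict_mono_of_isPrime (bot_lt_iff_ne_bot.mpr hP)
  have h3 : P.height = 0 := Order.lt_one_iff.mp (lt_of_lt_of_le h1 hQ)
  rw [h3] at h2
  exact not_lt_bot h2

section

variable {R : CommRingCat.{u}} [IsDomain R]

/-- The algebra structure of a local ring of a spectrum. -/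
noncomputable abbrev stalkAlg (x : Spec R) : Algebra R ((Spec R).presheaf.stalk x) :=
  StructureSheaf.stalkAlgebra R x

attribute [local instance] stalkAlg

theorem isLocalization_stalk (x : Spec R) :
    IsLocalization.AtPrime ((Spec R).presheaf.stalk x) x.asIdeal :=
  StructureSheaf.IsLocalization.to_stalk R x

theorem algebraMap_stalk_functionField (x : Spec R) (r : R) :
    algebraMap ((Spec R).presheaf.stalk x) (Spec R).functionField
      (algebraMap R ((Spec R).presheaf.stalk x) r) = algebraMap R (Spec R).functionField r :=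
  algebraMap_stalk_comp x r

theorem comap_stalk_le (x : Spec R) (Q : Ideal ((Spec R).presheaf.stalk x)) [Q.IsPrime] :
    Q.comap (algebraMap R ((Spec R).presheaf.stalk x)) ≤ x.asIdeal := by
  intro r hr
  by_contra h
  haveI := isLocalization_stalk x
  exact ‹Q.IsPrime›.ne_top
    (Ideal.eq_top_of_isUnit_mem _ hr (IsLocalization.map_units _ (⟨r, h⟩ : x.asIdeal.primeCompl)))

/-- The point of a prime of a local ring. -/
noncomputable def ptOf (x : Spec R) (Q : Ideal ((Spec R).presheaf.stalk x)) [hQ : Q.IsPrime] : Spec R :=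
  ⟨Q.comap (algebraMap R ((Spec R).presheaf.stalk x)), hQ.comap _⟩

theorem ptOf_specializes (x : Spec R) (Q : Ideal ((Spec R).presheaf.stalk x)) [Q.IsPrime] :
    ptOf x Q ⤳ x :=
  (PrimeSpectrum.le_iff_specializes (ptOf x Q) x).mp (comap_stalk_le x Q)

theorem unitP_ptOf_iff (x : Spec R) (Q : Ideal ((Spec R).presheaf.stalk x)) [hQ : Q.IsPrime]
    (c : (Spec R).functionField) : UnitP (ptOf x Q).asIdeal c ↔ UnitP Q c := by
  haveI := isLocalization_stalk x
  constructor
  · rintro ⟨a, b, ha, hb, e⟩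
    exact ⟨algebraMap R _ a, algebraMap R _ b, ha, hb, by
      rw [algebraMap_stalk_functionField, algebraMap_stalk_functionField, e]⟩
  · rintro ⟨a, b, ha, hb, e⟩
    obtain ⟨⟨a₁, s⟩, ha₁⟩ := IsLocalization.surj x.asIdeal.primeCompl a
    obtain ⟨⟨b₁, t⟩, hb₁⟩ := IsLocalization.surj x.asIdeal.primeCompl b
    simp only at ha₁ hb₁
    have hs : ∀ v : x.asIdeal.primeCompl, algebraMap R ((Spec R).presheaf.stalk x) v ∉ Q := fun v hv =>
      v.2 (comap_stalk_le x Q (show (v : R) ∈ Q.comap _ from hv))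
    refine ⟨a₁ * t, b₁ * s, ?_, ?_, ?_⟩
    · show algebraMap R ((Spec R).presheaf.stalk x) (a₁ * t) ∉ Q
      rw [map_mul, ← ha₁]
      exact hQ.mul_notMem (hQ.mul_notMem ha (hs s)) (hs t)
    · show algebraMap R ((Spec R).presheaf.stalk x) (b₁ * s) ∉ Q
      rw [map_mul, ← hb₁]
      exact hQ.mul_notMem (hQ.mul_notMem hb (hs t)) (hs s)
    · have ea := congrArg (algebraMap ((Spec R).presheaf.stalk x) (Spec R).functionField) ha₁
      have eb := congrArg (algebraMap ((Spec R).presheaf.stalk x) (Spec R).functionField) hb₁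
      rw [map_mul, algebraMap_stalk_functionField, algebraMap_stalk_functionField] at ea eb
      rw [map_mul, map_mul, ← ea, ← eb, ← e]
      ring

theorem regP_ptOf (x : Spec R) (Q : Ideal ((Spec R).presheaf.stalk x)) [hQ : Q.IsPrime]
    {c : (Spec R).functionField} (h : RegP (ptOf x Q).asIdeal c) : RegP Q c := by
  obtain ⟨a, b, hb, e⟩ := h
  exact ⟨algebraMap R _ a, algebraMap R _ b, hb, by
    rw [algebraMap_stalk_functionField, algebraMap_stalk_functionField, e]⟩

theorem isUnitAt_iff_unitP (z : Spec R) (c : (Spec R).functionField) :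
    IsUnitAt z c ↔ UnitP z.asIdeal c :=
  isUnitAt_Spec_iff z c

/-- A rational function regular at every point of an open is a section. -/
theorem exists_section_of_regP {W : (Spec R).Opens} {x₀ : Spec R} (hx₀ : x₀ ∈ W)
    {c : (Spec R).functionField} (h : ∀ z ∈ W, RegP z.asIdeal c) :
    ∃ u : Γ(Spec R, W), toK x₀ hx₀ u = c := by
  choose a b hb e using fun z : W => h z.1 z.2
  let σ : R → Γ(Spec R, ⊤) := fun r => (Scheme.ΓSpecIso R).inv r
  let W' : W → (Spec R).Opens := fun z => PrimeSpectrum.basicOpen (b z) ⊓ W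
  have hu : ∀ z : W, IsUnit (fres (Spec R) (le_top : W' z ≤ ⊤) (σ (b z))) := fun z => by
    have hle : W' z ≤ (Spec R).basicOpen (σ (b z)) := inf_le_left.trans (basicOpen_eq_of_affine (b z)).ge
    rw [← fres_fres le_top hle]
    exact ((Spec R).toRingedSpace.isUnit_res_basicOpen (σ (b z))).map _
  let a' : ∀ z, Γ(Spec R, W' z) := fun z =>
    fres (Spec R) (le_top : W' z ≤ ⊤) (σ (a z)) * ((hu z).unit⁻¹ : (Γ(Spec R, W' z))ˣ).val
  have hσ : ∀ (r : R) (V : (Spec R).Opens) (y : Spec R) (hy : y ∈ V),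
      toK y hy (fres (Spec R) le_top (σ r)) = algebraMap R (Spec R).functionField r := fun r V y hy => by
    rw [toK_fres]; rfl
  have hval : ∀ (z : W) (y : Spec R) (hy : y ∈ W' z), toK y hy (a' z) = c := fun z y hy => by
    haveI : Nonempty (W' z) := ⟨⟨y, hy⟩⟩
    have hb0 : algebraMap R (Spec R).functionField (b z) ≠ 0 := fun h0 => hb z (by
      rw [IsFractionRing.injective R (Spec R).functionField (h0.trans (map_zero _).symm)]
      exact z.1.asIdeal.zero_mem)
    refine mul_right_cancel₀ hb0 ?_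
    rw [e z, ← hσ (b z) (W' z) y hy, ← hσ (a z) (W' z) y hy]
    show toK y hy (a' z) * toK y hy (fres (Spec R) le_top (σ (b z))) = _
    rw [← show toK y hy (a' z * fres (Spec R) le_top (σ (b z))) =
      toK y hy (a' z) * toK y hy (fres (Spec R) le_top (σ (b z))) from map_mul _ _ _]
    congr 1
    simp only [a', mul_assoc, IsUnit.val_inv_mul, mul_one]
  have hcov : W ≤ ⨆ z, W' z := fun y hy => Opens.mem_iSup.mpr ⟨⟨y, hy⟩, hb ⟨y, hy⟩, hy⟩
  obtain ⟨u, hu', -⟩ := (Spec R).sheaf.existsUnique_gluing' W' W (fun z => homOfLE inf_le_right) hcov a' (by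
    intro i j
    show fres (Spec R) inf_le_left (a' i) = fres (Spec R) inf_le_right (a' j)
    by_cases hne : ((W' i ⊓ W' j : (Spec R).Opens) : Set (Spec R)).Nonempty
    · obtain ⟨y, hy⟩ := hne
      refine toK_injective y hy ?_
      rw [toK_fres, toK_fres, hval i y hy.1, hval j y hy.2]
    · haveI : Subsingleton Γ(Spec R, W' i ⊓ W' j) := by
        have : W' i ⊓ W' j = ⊥ := Opens.ext (Set.not_nonempty_iff_eq_empty.mp hne)
        rw [this]; infer_instance
      exact Subsingleton.elim _ _)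
  refine ⟨u, ?_⟩
  have hm : x₀ ∈ W' ⟨x₀, hx₀⟩ := ⟨hb ⟨x₀, hx₀⟩, hx₀⟩
  rw [← toK_fres (inf_le_right : W' ⟨x₀, hx₀⟩ ≤ W) x₀ hm u,
    show fres (Spec R) (inf_le_right : W' ⟨x₀, hx₀⟩ ≤ W) u = a' ⟨x₀, hx₀⟩ from hu' _]
  exact hval _ _ hm

/-- Sections are regular. -/
theorem regP_of_section {W : (Spec R).Opens} {z : Spec R} (hz : z ∈ W) (u : Γ(Spec R, W)) :
    RegP z.asIdeal (toK z hz u) := by
  haveI := isLocalization_stalk z
  haveI : Nonempty W := ⟨⟨z, hz⟩⟩
  obtain ⟨⟨a, b⟩, hab⟩ := IsLocalization.surj z.asIdeal.primeCompl ((Spec R).presheaf.germ W z hz u)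
  refine ⟨a, b, b.2, ?_⟩
  have := congrArg (algebraMap ((Spec R).presheaf.stalk z) (Spec R).functionField) hab
  rw [map_mul, algebraMap_stalk_functionField, algebraMap_stalk_functionField,
    (Spec R).algebraMap_germ_eq_germToFunctionField hz u] at this
  exact this

variable [IsNoetherianRing R]

theorem height_ptOf_le_one (x : Spec R) {p : (Spec R).presheaf.stalk x} (hp : Prime p) [(Ideal.span {p}).IsPrime] :
    (ptOf x (Ideal.span {p})).asIdeal.height ≤ 1 := by
  haveI := isLocalization_stalk x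
  haveI : IsNoetherianRing ((Spec R).presheaf.stalk x) :=
    IsLocalization.isNoetherianRing x.asIdeal.primeCompl _ inferInstance
  show (Ideal.comap (algebraMap R _) (Ideal.span {p})).height ≤ 1
  rw [IsLocalization.height_under x.asIdeal.primeCompl]
  exact Ideal.height_le_one_of_isPrincipal_of_mem_minimalPrimes (Ideal.span {p}) _
    (by rw [Ideal.minimalPrimes_eq_subsingleton_self]; rfl)

/-- A rational function regular at the height one points below a point with factorial local ring is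
regular there. -/
theorem regP_of_height_le_one (x : Spec R) [IsDomain ((Spec R).presheaf.stalk x)]
    [UniqueFactorizationMonoid ((Spec R).presheaf.stalk x)] {c : (Spec R).functionField}
    (h : ∀ z : Spec R, z ⤳ x → z.asIdeal.height ≤ 1 → RegP z.asIdeal c) : RegP x.asIdeal c := by
  haveI := isLocalization_stalk x
  obtain ⟨a, ha⟩ := mem_range_of_forall_regP (A := (Spec R).presheaf.stalk x) (c := c) fun p hp => by
    haveI : (Ideal.span {p}).IsPrime := (Ideal.span_singleton_prime hp.ne_zero).mpr hp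
    exact regP_ptOf x _ (h _ (ptOf_specializes x _) (height_ptOf_le_one x hp))
  obtain ⟨⟨r, s⟩, hrs⟩ := IsLocalization.surj x.asIdeal.primeCompl a
  refine ⟨r, s, s.2, ?_⟩
  rw [← ha, ← algebraMap_stalk_functionField x r, ← algebraMap_stalk_functionField x s, ← map_mul, hrs]

/-- The main local statement: near a point with factorial local ring there is a generator on the given open
which is compatible with prescribed generators at height one points outside it. -/
theorem exists_gen_compatible (M : (Spec R).Modules) (U' : (Spec R).Opens) (x : Spec R)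
    [IsDomain ((Spec R).presheaf.stalk x)] [UniqueFactorizationMonoid ((Spec R).presheaf.stalk x)]
    (D : Spec R → (Spec R).Opens) (e : ∀ z, Γ(M, D z)) (he : ∀ z, IsGen M (D z) (e z))
    (hDU : ∀ z, D z ≤ U') (pt : Spec R → Spec R) (hpt : ∀ z, pt z ∈ D z)
    (hmem : ∀ z ∈ U', z ∈ D z) :
    ∃ (s : R) (g : Γ(M, U' ⊓ PrimeSpectrum.basicOpen s)), x ∈ PrimeSpectrum.basicOpen s ∧
      IsGen M (U' ⊓ PrimeSpectrum.basicOpen s) g ∧
      ∀ q ∈ PrimeSpectrum.basicOpen s, q ∉ U' → q.asIdeal.height ≤ 1 →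
        ∀ r, IsRatio M g (e q) r → IsUnitAt q r := by
  classical
  haveI := isLocalization_stalk x
  choose c hc using fun z => exists_isRatio (e := e x) (he z) (hpt x) (hpt z)
  have hc0 : ∀ z, c z ≠ 0 := fun z => by
    obtain ⟨w, hw⟩ := exists_common_point (hpt x) (hpt z)
    exact ((hc z).isUnitAt (he x) (he z) hw.1 hw.2).ne_zero
  -- a basic open inside the base chart
  obtain ⟨_, ⟨g₀, rfl⟩, hg₀, hg₀D⟩ := PrimeSpectrum.isTopologicalBasis_basic_opens.exists_subset_of_mem_open
    (hpt x) (D x).2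
  have hg₀0 : algebraMap R ((Spec R).presheaf.stalk x) g₀ ≠ 0 := fun h0 => hg₀ (by
    have h1 := congrArg (algebraMap ((Spec R).presheaf.stalk x) (Spec R).functionField) h0
    rw [algebraMap_stalk_functionField, map_zero] at h1
    rw [IsFractionRing.injective R (Spec R).functionField (h1.trans (map_zero _).symm)]
    exact (pt x).asIdeal.zero_mem)
  let cA : Ideal ((Spec R).presheaf.stalk x) → (Spec R).functionField := fun Q =>
    if h : Q.IsPrime then c (ptOf x Q (hQ := h)) else 1
  obtain ⟨f, hf0, hf⟩ := exists_unitP_correction hg₀0 cA (fun Q => by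
      simp only [cA]; split_ifs
      exacts [hc0 _, one_ne_zero]) fun p hp hpg => by
    haveI hQ : (Ideal.span {p}).IsPrime := (Ideal.span_singleton_prime hp.ne_zero).mpr hp
    simp only [cA, dif_pos hQ]
    refine (unitP_ptOf_iff x _ _).mp ((isUnitAt_iff_unitP _ _).mp ?_)
    have hzD : ptOf x (Ideal.span {p}) ∈ D x := hg₀D fun h => hpg (Ideal.mem_span_singleton.mp h)
    exact (hc _).isUnitAt (he x) (he _) hzD (hmem _ (hDU x hzD))
  have hfz : ∀ (p : (Spec R).presheaf.stalk x) (hp : Prime p) [(Ideal.span {p}).IsPrime],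
      UnitP (ptOf x (Ideal.span {p})).asIdeal (f * c (ptOf x (Ideal.span {p}))) := by
    intro p hp hQ
    have := hf p hp
    simp only [cA, dif_pos hQ] at this
    exact (unitP_ptOf_iff x _ _).mpr this
  -- finitely many charts
  have hchart : ∀ z : U', ∃ t : R, (z : Spec R) ∈ PrimeSpectrum.basicOpen t ∧
      PrimeSpectrum.basicOpen t ≤ D z := fun z => by
    obtain ⟨_, ⟨t, rfl⟩, ht, htD⟩ := PrimeSpectrum.isTopologicalBasis_basic_opens.exists_subset_of_mem_open
      (hmem _ z.2) (D z).2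
    exact ⟨t, ht, htD⟩
  choose t ht htD using hchart
  haveI : TopologicalSpace.NoetherianSpace (Spec R) :=
    inferInstanceAs (TopologicalSpace.NoetherianSpace (PrimeSpectrum R))
  obtain ⟨ι, hι⟩ := (TopologicalSpace.NoetherianSpace.isCompact (U' : Set (Spec R))).elim_finite_subcover
    (fun z : U' => {y : Spec R | t z ∉ y.asIdeal})
    (fun z => (PrimeSpectrum.basicOpen (t z)).isOpen) (fun y hy => Set.mem_iUnion.mpr ⟨⟨y, hy⟩, ht _⟩)
  -- multipliers making the corrected ratios units on the charts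
  have hs₁ : ∀ z : U', ∃ s : R, s ∉ x.asIdeal ∧ ∀ w ∈ PrimeSpectrum.basicOpen (t z),
      w ∈ PrimeSpectrum.basicOpen s → UnitP w.asIdeal (f * c z) := by
    intro z
    have hu : ∀ p : (Spec R).presheaf.stalk x, Prime p → ¬ p ∣ algebraMap R _ (t z) →
        UnitP (Ideal.span {p}) (f * c z) := by
      intro p hp hpt'
      haveI hQ : (Ideal.span {p}).IsPrime := (Ideal.span_singleton_prime hp.ne_zero).mpr hp
      refine (unitP_ptOf_iff x _ _).mp ?_
      have hw : ptOf x (Ideal.span {p}) ∈ D z := htD z fun h => hpt' (Ideal.mem_span_singleton.mp h)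
      obtain ⟨r, hr⟩ := exists_isRatio (e := e (ptOf x (Ideal.span {p}))) (he z) (hpt _) (hpt z)
      rw [show c z = c (ptOf x (Ideal.span {p})) * r from (hc z).unique (he z) ((hc _).trans hr), ← mul_assoc]
      exact (hfz p hp).mul ((isUnitAt_iff_unitP _ _).mp
        (hr.isUnitAt (he _) (he z) (hmem _ (hDU z hw)) hw))
    obtain ⟨n, a, hna⟩ := exists_pow_mul_mem_range (A := (Spec R).presheaf.stalk x)
      (g := algebraMap R _ (t z)) (c := f * c z) fun p hp h => (hu p hp h).regP
    obtain ⟨m, b, hmb⟩ := exists_pow_mul_mem_range (A := (Spec R).presheaf.stalk x)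
      (g := algebraMap R _ (t z)) (c := (f * c z)⁻¹) fun p hp h => by
      haveI : (Ideal.span {p}).IsPrime := (Ideal.span_singleton_prime hp.ne_zero).mpr hp
      exact (hu p hp h).inv.regP
    obtain ⟨⟨a', u⟩, hau⟩ := IsLocalization.surj x.asIdeal.primeCompl a
    obtain ⟨⟨b', v⟩, hbv⟩ := IsLocalization.surj x.asIdeal.primeCompl b
    refine ⟨(u : R) * v, x.isPrime.mul_notMem u.2 v.2, fun w hwt hwuv => ?_⟩
    have hwu : (u : R) ∉ w.asIdeal := fun h => hwuv (w.asIdeal.mul_mem_right _ h)
    have hwv : (v : R) ∉ w.asIdeal := fun h => hwuv (w.asIdeal.mul_mem_left _ h)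
    have hwn : ∀ k : ℕ, (t z) ^ k ∉ w.asIdeal := fun k h => hwt (w.isPrime.mem_of_pow_mem k h)
    have e1 : f * c z * algebraMap R (Spec R).functionField ((t z) ^ n * u) =
        algebraMap R (Spec R).functionField a' := by
      rw [← algebraMap_stalk_functionField x a', ← hau, map_mul, map_mul, map_pow,
        ← algebraMap_stalk_functionField x (t z), algebraMap_stalk_functionField x (u : R), ← mul_assoc, hna]
    have e2 : (f * c z)⁻¹ * algebraMap R (Spec R).functionField ((t z) ^ m * v) =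
        algebraMap R (Spec R).functionField b' := by
      rw [← algebraMap_stalk_functionField x b', ← hbv, map_mul, map_mul, map_pow,
        ← algebraMap_stalk_functionField x (t z), algebraMap_stalk_functionField x (v : R), ← mul_assoc, hmb]
    refine ⟨a', (t z) ^ n * u, ?_, w.isPrime.mul_notMem (hwn n) hwu, e1⟩
    intro hwa
    have key : a' * b' = ((t z) ^ n * u) * ((t z) ^ m * v) := by
      apply IsFractionRing.injective R (Spec R).functionField
      rw [map_mul, map_mul _ ((t z) ^ n * u), ← e1, ← e2]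
      rw [mul_mul_mul_comm, mul_inv_cancel₀ (mul_ne_zero hf0 (hc0 z)), one_mul]
    exact w.isPrime.mul_notMem (w.isPrime.mul_notMem (hwn n) hwu) (w.isPrime.mul_notMem (hwn m) hwv)
      (key ▸ w.asIdeal.mul_mem_right b' hwa)
  choose s₁ hs₁x hs₁ using hs₁
  -- the height one points outside `U'`
  obtain ⟨_, ⟨h₀, rfl⟩, hh₀, hh₀U⟩ := PrimeSpectrum.isTopologicalBasis_basic_opens.exists_subset_of_mem_open
    (hDU x (hpt x)) U'.2
  have hh₀0 : h₀ ≠ 0 := fun h0 => hh₀ (by subst h0; exact Submodule.zero_mem _)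
  let Qs : Set (Spec R) := {q | q ∉ U' ∧ q.asIdeal.height ≤ 1}
  have hQs : Qs.Finite := by
    refine Set.Finite.of_finite_image (f := fun q : Spec R => q.asIdeal) ?_
      (fun a _ b _ hab => PrimeSpectrum.ext hab)
    refine ((Ideal.span {h₀}).finite_minimalPrimes_of_isNoetherianRing R).subset ?_
    rintro _ ⟨q, ⟨hqU, hq1⟩, rfl⟩
    have hhq : h₀ ∈ q.asIdeal := by
      by_contra h'
      exact hqU (hh₀U h')
    haveI := q.isPrime
    obtain ⟨P, hP, hPq⟩ := Ideal.exists_minimalPrimes_le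
      (show Ideal.span {h₀} ≤ q.asIdeal by rwa [Ideal.span_singleton_le_iff_mem])
    haveI := hP.1.1
    have hPne : P ≠ ⊥ := fun h => hh₀0
      (by simpa [h] using hP.1.2 (Ideal.mem_span_singleton_self h₀))
    show q.asIdeal ∈ _
    rwa [← eq_of_le_of_height_le_one hPq hPne hq1]
  have hs₂ : ∀ q : Spec R, ∃ s : R, s ∉ x.asIdeal ∧ (¬ q ⤳ x → s ∈ q.asIdeal) := fun q => by
    by_cases h : q ⤳ x
    · exact ⟨1, fun h1 => x.isPrime.ne_top (x.asIdeal.eq_top_iff_one.mpr h1), fun hn => absurd h hn⟩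
    · have h' : ¬ q.asIdeal ≤ x.asIdeal := fun hh => h ((PrimeSpectrum.le_iff_specializes q x).mp hh)
      obtain ⟨s, hsq, hsx⟩ := SetLike.not_le_iff_exists.mp h'
      exact ⟨s, hsx, fun _ => hsq⟩
  choose s₂ hs₂x hs₂ using hs₂
  let s : R := (∏ z ∈ ι, s₁ z) * ∏ q ∈ hQs.toFinset, s₂ q
  have hxs : x ∈ PrimeSpectrum.basicOpen s := by
    refine x.isPrime.mul_notMem ?_ ?_ <;>
      · intro h
        obtain ⟨i, -, hi⟩ := x.isPrime.prod_mem_iff.mp h
        first | exact hs₁x i hi | exact hs₂x i hi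
  have hhq : ∀ q ∈ PrimeSpectrum.basicOpen s, q ∉ U' → q.asIdeal.height ≤ 1 →
      UnitP q.asIdeal (f * c q) := by
    intro q hqs hqU hq1
    have hqx : q ⤳ x := by
      by_contra h
      exact hqs (q.asIdeal.mul_mem_left _
        (q.isPrime.prod_mem_iff.mpr ⟨q, hQs.mem_toFinset.mpr ⟨hqU, hq1⟩, hs₂ q h⟩))
    have hle : q.asIdeal ≤ x.asIdeal := (PrimeSpectrum.le_iff_specializes q x).mpr hqx
    have hdisj : Disjoint (x.asIdeal.primeCompl : Set R) q.asIdeal :=
      Set.disjoint_left.mpr fun r hr hrq => hr (hle hrq)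
    have hQp : (q.asIdeal.map (algebraMap R ((Spec R).presheaf.stalk x))).IsPrime :=
      IsLocalization.isPrime_of_isPrime_disjoint x.asIdeal.primeCompl _ _ q.isPrime hdisj
    have hQc := IsLocalization.under_map_of_isPrime_disjoint x.asIdeal.primeCompl
      ((Spec R).presheaf.stalk x) q.isPrime hdisj
    have hQne : q.asIdeal.map (algebraMap R ((Spec R).presheaf.stalk x)) ≠ ⊥ := fun h => by
      have hmemh : h₀ ∈ q.asIdeal := by
        by_contra h'
        exact hqU (hh₀U h')
      have h2 : algebraMap R ((Spec R).presheaf.stalk x) h₀ = 0 := by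
        simpa [h] using Ideal.mem_map_of_mem (algebraMap R ((Spec R).presheaf.stalk x)) hmemh
      have h3 := congrArg (algebraMap ((Spec R).presheaf.stalk x) (Spec R).functionField) h2
      rw [algebraMap_stalk_functionField, map_zero] at h3
      exact hh₀0 (IsFractionRing.injective R (Spec R).functionField (h3.trans (map_zero _).symm))
    obtain ⟨p, hpQ, hp⟩ := hQp.exists_mem_prime_of_ne_bot hQne
    haveI hP : (Ideal.span {p}).IsPrime := (Ideal.span_singleton_prime hp.ne_zero).mpr hp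
    have hpq : (ptOf x (Ideal.span {p})).asIdeal ≤ q.asIdeal := fun r hr => by
      rw [← hQc]
      exact (Ideal.span_singleton_le_iff_mem _).mpr hpQ hr
    haveI := q.isPrime
    haveI := (ptOf x (Ideal.span {p})).isPrime
    have hne : (ptOf x (Ideal.span {p})).asIdeal ≠ ⊥ := fun h => hp.ne_zero (by
      obtain ⟨⟨r, v⟩, hrv⟩ := IsLocalization.surj x.asIdeal.primeCompl p
      have : r ∈ (ptOf x (Ideal.span {p})).asIdeal := by
        show algebraMap R _ r ∈ Ideal.span {p}
        rw [← hrv]; exact Ideal.mul_mem_right _ _ (Ideal.mem_span_singleton_self p)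
      rw [h, Submodule.mem_bot] at this
      subst this
      rw [map_zero, IsUnit.mul_left_eq_zero (IsLocalization.map_units _ v)] at hrv
      exact hrv)
    have := hfz p hp
    rwa [show ptOf x (Ideal.span {p}) = q from
      PrimeSpectrum.ext (eq_of_le_of_height_le_one hpq hne hq1)] at this
  have hs₁' : ∀ z ∈ ι, ∀ w ∈ PrimeSpectrum.basicOpen s, w ∈ PrimeSpectrum.basicOpen (s₁ z) :=
    fun z hz w hw h => hw (w.asIdeal.mul_mem_right _ (w.isPrime.prod_mem_iff.mpr ⟨z, hz, h⟩))
  -- glue the generator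
  let η : Spec R := genericPoint (Spec R)
  have hη : ∀ (O : (Spec R).Opens) (y : Spec R), y ∈ O → η ∈ O := fun O y hy =>
    ((genericPoint_spec (Spec R)).mem_open_set_iff O.2).mpr ⟨y, trivial, hy⟩
  have hηs : η ∈ PrimeSpectrum.basicOpen s := hη _ x hxs
  obtain ⟨z₀, hz₀⟩ : ∃ z₀ : U', z₀ ∈ ι := by
    obtain ⟨z, hz, -⟩ := Set.mem_iUnion₂.mp (hι (show η ∈ (U' : Set (Spec R)) from hη _ _ (hDU x (hpt x))))
    exact ⟨z, hz⟩
  let V : ι → (Spec R).Opens := fun i => PrimeSpectrum.basicOpen (t i.1) ⊓ PrimeSpectrum.basicOpen s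
  have hVD : ∀ i : ι, V i ≤ D i.1 := fun i => inf_le_left.trans (htD i.1)
  let E : ∀ i : ι, Γ(M, V i) := fun i => mres M (hVD i) (e i.1)
  have hptV : ∀ i : ι, η ∈ V i := fun i => ⟨hη _ _ (ht i.1), hηs⟩
  have hres : ∀ i : ι, IsRatio M (E i) (e i.1) 1 := fun i => by
    haveI : Nonempty (V i) := ⟨⟨η, hptV i⟩⟩
    exact ⟨V i, le_rfl, hVD i, η, hptV i, 1, by rw [mres_self, one_smul],
      map_one ((Spec R).germToFunctionField (V i)).hom⟩
  have hresc : ∀ i j : ι, ∀ r, IsRatio M (E i) (E j) r → c j.1 = c i.1 * r := by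
    intro i j r hr
    obtain ⟨v, hv⟩ := exists_isRatio (e := e i.1) (he j.1) (hpt _) (hpt j.1)
    rw [(hc j.1).unique (he j.1) ((hc i.1).trans hv)]
    congr 1
    have h2 := (hr.trans (hres j)).unique (he j.1) ((hres i).trans hv)
    rw [mul_one, one_mul] at h2
    exact h2.symm
  choose r hr using fun i : ι => exists_isRatio (e := E ⟨z₀, hz₀⟩) ((he i.1).restrict (hVD i))
    (hptV ⟨z₀, hz₀⟩) (hptV i)
  obtain ⟨g, hg, hgr⟩ := exists_gen_of_correction' V (fun _ => η) hptV E
    (fun i => (he i.1).restrict (hVD i)) ⟨z₀, hz₀⟩ r hr (f * c z₀) (fun i w hw => by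
      rw [isUnitAt_iff_unitP, mul_assoc, ← hresc ⟨z₀, hz₀⟩ i (r i) (hr i)]
      exact hs₁ i.1 w hw.1 (hs₁' i.1 i.2 w hw.2))
    (U' ⊓ PrimeSpectrum.basicOpen s)
    (fun i => le_inf (inf_le_left.trans ((htD i.1).trans (hDU _))) inf_le_right)
    (fun y hy => by
      obtain ⟨z, hz, hyz⟩ := Set.mem_iUnion₂.mp (hι hy.1)
      exact Opens.mem_iSup.mpr ⟨⟨z, hz⟩, hyz, hy.2⟩)
  refine ⟨s, g, hxs, hg, fun q hqs hqU hq1 ρ hρ => ?_⟩
  obtain ⟨v, hv⟩ := exists_isRatio (e := e z₀) (he q) (hpt _) (hpt q)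
  have h1 : c q = c z₀ * v := (hc q).unique (he q) ((hc z₀).trans hv)
  have h2 : ρ = f * c z₀ * (1 * v) :=
    hρ.unique (he q) (hgr.trans ((hres ⟨z₀, hz₀⟩).trans hv))
  rw [h2, one_mul, mul_assoc, ← h1, isUnitAt_iff_unitP]
  exact hhq q hqs hqU hq1

end

end GrothLib.InvExt
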