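import Groth.Agent.Lib.InvExt.Extend

/-!
An invertible module on an open extends when the outer local rings are factorial.
-/

set_option linter.style.header false
set_option linter.style.haveILetI false
set_option linter.overlappingInstances false

universe u

open CategoryTheory Limits AlgebraicGeometry Opposite TopologicalSpace

namespace GrothLib.InvExt

theorem exists_extension (X : Scheme.{u}) [IsLocallyNoetherian X] (U : X.Opens)
    (L : (U : Scheme.{u}).Modules) (hL : PicF.IsInvertible L)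
    (hufd : ∀ x : X, x ∉ U → UniqueFactorizationMonoid (X.presheaf.stalk x)) :
    ∃ L' : X.Modules, PicF.IsInvertible L' ∧ Nonempty (L'.restrict U.ι ≅ L) := by
  classical
  have hdom : ∀ y : X, y ∉ U →
      UniqueFactorizationMonoid (X.presheaf.stalk y) ∧ IsDomain (X.presheaf.stalk y) := fun y hy => by
    haveI := hufd y hy
    exact ⟨hufd y hy, IsDomain.mk⟩
  let Q : Set X := {q | q ∉ U ∧ q ∈ closure (U : Set X) ∧ ringKrullDim (X.presheaf.stalk q) ≤ 1}
  have hdata : ∀ q : Q, ∃ (D N : X.Opens) (e : Γ(push U L, D)), (q : X) ∈ N ∧ D ≤ U ∧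
      IsGen (push U L) D e ∧ ∀ O : X.Opens, (q : X) ∈ O → ∃ y, y ∈ O ⊓ D := by
    rintro ⟨q, hqU, hqc, hq1⟩
    haveI := (hdom q hqU).2
    obtain ⟨R, hR, hRn, φ, hφ, z, rfl⟩ := exists_integral_affine_nhd q
    obtain ⟨_, ⟨y, rfl⟩, hyU⟩ := mem_closure_iff.mp hqc _ φ.opensRange.2 ⟨z, rfl⟩
    obtain ⟨V, e, hyV, hVU, he⟩ := exists_gen_nhd_pushforward L hL hyU
    refine ⟨V, φ.opensRange, e, ⟨z, rfl⟩, hVU, he, fun O hO => ?_⟩
    obtain ⟨w, hw⟩ := exists_common_point (V := φ ⁻¹ᵁ O) (V' := φ ⁻¹ᵁ V) (x := z) (x' := y) hO hyV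
    exact ⟨φ w, hw⟩
  choose D N e hN hDU he hmeet using hdata
  let P := subData U L Q D N hN e
  let W₀ : X.Opens := ⟨(closure (U : Set X))ᶜ, isClosed_closure.isOpen_compl⟩
  let N₀ : X.Modules := (Scheme.Modules.pushforward W₀.ι).obj (Coh.structureModule (W₀ : Scheme.{u}))
  have hN₀sub : ∀ W : X.Opens, Disjoint (W : Set X) W₀ → Subsingleton Γ(N₀, W) := fun W hW =>
    subsingleton_pushforward _ hW
  have hUW₀ : ∀ W : X.Opens, W ≤ U → Disjoint (W : Set X) W₀ := fun W hW =>
    Set.disjoint_left.mpr fun y hy hy₀ => hy₀ (subset_closure (hW hy))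
  have hιbij : ∀ W : X.Opens, W ≤ U → Function.Bijective (P.ι.app W) := fun W hW =>
    ⟨P.ι_app_injective W, fun m => ⟨P.lift m fun q hq => absurd (hW hq) q.2.1, rfl⟩⟩
  refine ⟨P.obj ⊞ N₀, isInvertible_of_gens fun x => ?_, ?_⟩
  · by_cases hxc : x ∈ closure (U : Set X)
    · by_cases hxU : x ∈ U
      · obtain ⟨V, g, hxV, hVU, hg⟩ := exists_gen_nhd_pushforward L hL hxU
        obtain ⟨g', rfl⟩ := (hιbij V hVU).2 g
        have hg' : IsGen P.obj V g' := fun W hW => by
          refine ((hιbij W (hW.trans hVU)).of_comp_iff' _).mp ?_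
          convert! hg W hW using 1
        refine ⟨V, _, hxV, hg'.map (biprod.inl : P.obj ⟶ P.obj ⊞ N₀) fun W hW => ?_⟩
        haveI := hN₀sub W (hUW₀ W (hW.trans hVU))
        exact bijective_biprod_inl
      · obtain ⟨V, G, hxV, hdisj, hG⟩ := exists_gen_subData_of_mem_closure U L hL hdom Q
          (fun y h1 h2 h3 => ⟨h1, h2, h3⟩) (fun q hq => hq.1) (fun q hq => hq.2.2) D N hN hDU hmeet e he
          x hxU hxc
        refine ⟨V, _, hxV, hG.map (biprod.inl : P.obj ⟶ P.obj ⊞ N₀) fun W hW => ?_⟩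
        haveI := hN₀sub W (hdisj.mono_left fun y hy => hW hy)
        exact bijective_biprod_inl
    · refine ⟨W₀, _, hxc, (isGen_pushforward _ le_rfl (isGen_one _)).map
        (biprod.inr : N₀ ⟶ P.obj ⊞ N₀) fun W hW => ?_⟩
      haveI : Subsingleton Γ(P.obj, W) := by
        haveI := subsingleton_pushforward L (W := W)
          (Set.disjoint_left.mpr fun y hy hyU => hW hy (subset_closure hyU))
        exact (P.ι_app_injective W).subsingleton
      exact bijective_biprod_inr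
  · let ψ : P.obj ⊞ N₀ ⟶ push U L := biprod.fst ≫ P.ι
    haveI : IsIso ((Scheme.Modules.restrictFunctor U.ι).map ψ) := by
      rw [Scheme.Modules.Hom.isIso_iff_isIso_app]
      intro W
      rw [ConcreteCategory.isIso_iff_bijective]
      have hWU : U.ι ''ᵁ W ≤ U := (U.ι.image_le_opensRange W).trans (by rw [Scheme.Opens.opensRange_ι])
      haveI := hN₀sub _ (hUW₀ _ hWU)
      have hfst : Function.Bijective ((biprod.fst : P.obj ⊞ N₀ ⟶ P.obj).app (U.ι ''ᵁ W)) := by
        have hinv : ∀ m, (biprod.fst : P.obj ⊞ N₀ ⟶ P.obj).app (U.ι ''ᵁ W)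
            ((biprod.inl : P.obj ⟶ P.obj ⊞ N₀).app (U.ι ''ᵁ W) m) = m := fun m => by
          show ((biprod.inl : P.obj ⟶ P.obj ⊞ N₀) ≫ biprod.fst).app _ m = m
          rw [biprod.inl_fst]; rfl
        refine ⟨fun a b hab => ?_, fun m => ⟨_, hinv m⟩⟩
        obtain ⟨a', rfl⟩ := (bijective_biprod_inl (M := P.obj) (N := N₀) (W := U.ι ''ᵁ W)).2 a
        obtain ⟨b', rfl⟩ := (bijective_biprod_inl (M := P.obj) (N := N₀) (W := U.ι ''ᵁ W)).2 b
        rw [hinv, hinv] at hab
        rw [hab]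
      exact (hιbij _ hWU).comp hfst
    exact ⟨asIso ((Scheme.Modules.restrictFunctor U.ι).map ψ) ≪≫
      (Scheme.Modules.restrictFunctorAdjCounitIso U.ι).app L⟩

end GrothLib.InvExt
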